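import Cfsg.Agent.H533.Wf.Aut

/-!
# S3826, triality rows: three commuting copies of a group (helper174)

* `Acts a x i j ξ` : `x (a i y) = a j (ξ y)`;
* `W` : `c` permutes the three copies cyclically, `d` normalises them: the conjugates `l δ l⁻¹` lie in a `3`-group;
* `swap` : `c`, `d` permute them in the same way: the coset `ν Inn L` consists of elements of `3`-power order;
* `vec` : the vector argument for copies of `S₃`.
-/

set_option autoImplicit false
set_option linter.unusedSectionVars false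

namespace Cfsg.Agent.H174.WT.Abs

universe u v

open Subgroup Cfsg Cfsg.Agent.H533.Wf

open scoped commutatorElement

variable {K : Type v} [Group K] {L : Type u} [Group L]

/-- three commuting copies -/
structure Three (a : Fin 3 → L →* K) : Prop where
  inj : ∀ i, Function.Injective (a i)
  comm : ∀ i j, i ≠ j → ∀ x y, Commute (a i x) (a j y)

/-- `x` maps the copy `i` to the copy `j` by `ξ` -/
def Acts (a : Fin 3 → L →* K) (x : MulAut K) (i j : Fin 3) (ξ : MulAut L) : Prop :=
  ∀ y, x (a i y) = a j (ξ y)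

variable {a : Fin 3 → L →* K} {x y : MulAut K} {i j k : Fin 3} {ξ η : MulAut L}

theorem Acts.one : Acts a 1 i i 1 := fun _ => rfl

theorem Acts.mul (hx : Acts a x j k ξ) (hy : Acts a y i j η) : Acts a (x * y) i k (ξ * η) := fun z => by
  rw [MulAut.mul_apply, hy, hx, MulAut.mul_apply]

theorem Acts.inv (hx : Acts a x i j ξ) : Acts a x⁻¹ j i ξ⁻¹ := fun z => by
  apply x.injective
  rw [MulAut.apply_inv_self, hx, MulAut.apply_inv_self]

theorem Acts.pow (hx : Acts a x i i ξ) (n : ℕ) : Acts a (x ^ n) i i (ξ ^ n) := by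
  induction n with
  | zero => exact Acts.one
  | succ n ih => rw [pow_succ, pow_succ]; exact ih.mul hx

theorem Acts.conj_self (l : L) : Acts a (MulAut.conj (a i l)) i i (MulAut.conj l) := fun z => by
  rw [MulAut.conj_apply, MulAut.conj_apply, map_mul, map_mul, map_inv]

theorem Three.conj_other (h : Three a) (hij : i ≠ j) (l : L) : Acts a (MulAut.conj (a i l)) j j 1 := fun z => by
  rw [MulAut.conj_apply, (h.comm i j hij l z).eq, mul_inv_cancel_right, MulAut.one_apply]

theorem Three.unique (h : Three a) (hx : Acts a x i j ξ) (hy : Acts a x i j η) : ξ = η := by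
  ext z
  exact h.inj j (by rw [← hx, hy])

theorem Three.eq_one (h : Three a) {n : ℕ} (hx : Acts a x i i ξ) (hn : x ^ n = 1) : ξ ^ n = 1 := by
  have h1 := hx.pow n
  rw [hn] at h1
  exact h.unique h1 Acts.one

theorem Three.exists_acts [Finite L] (h : Three a) (hx : ∀ z, ∃ w, x (a i z) = a j w) :
    ∃ ξ : MulAut L, Acts a x i j ξ := by
  choose f hf using hx
  have hmul : ∀ z w, f (z * w) = f z * f w := fun z w => h.inj j (by
    rw [← hf, map_mul, map_mul, map_mul, hf, hf])
  have hinj : Function.Injective f := fun z w hzw => h.inj i (x.injective (by rw [hf, hf, hzw]))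
  exact ⟨MulEquiv.ofBijective (MonoidHom.mk' f hmul) (Finite.injective_iff_bijective.mp hinj), hf⟩

variable [Finite K] {Γ : Subgroup (MulAut K)} {C D : Set (MulAut K)}

theorem conj_mem {p : ℕ} (h : ACfg p Γ C D) (k : K) {d : MulAut K} (hd : d ∈ D) :
    MulAut.conj k * d * (MulAut.conj k)⁻¹ ∈ D := h.conjD _ (h.inn ⟨k, rfl⟩) d hd

/-- The group induced on the copy `i` by the elements of `P`. -/
def Ind (a : Fin 3 → L →* K) (P : Subgroup (MulAut K)) (i : Fin 3) : Subgroup (MulAut L) where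
  carrier := {ξ | ∃ x ∈ P, Acts a x i i ξ}
  one_mem' := ⟨1, one_mem _, Acts.one⟩
  mul_mem' := by
    rintro ξ η ⟨x, hx, hxa⟩ ⟨y, hy, hya⟩
    exact ⟨x * y, mul_mem hx hy, hxa.mul hya⟩
  inv_mem' := by
    rintro ξ ⟨x, hx, hxa⟩
    exact ⟨x⁻¹, inv_mem hx, hxa.inv⟩

theorem Three.ind_pGroup (h : Three a) {p : ℕ} {P : Subgroup (MulAut K)} (hP : IsPGroup p P) :
    IsPGroup p (Ind a P i) := by
  rintro ⟨ξ, x, hx, hxa⟩
  obtain ⟨n, hn⟩ := hP ⟨x, hx⟩
  refine ⟨n, Subtype.ext ?_⟩
  exact h.eq_one hxa (congrArg Subtype.val hn)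

/-- The elements which act on the copy `i` by elements of `R`. -/
def Stab (a : Fin 3 → L →* K) (R : Subgroup (MulAut L)) (i : Fin 3) : Subgroup (MulAut K) where
  carrier := {x | ∃ ξ ∈ R, Acts a x i i ξ}
  one_mem' := ⟨1, one_mem _, Acts.one⟩
  mul_mem' := by
    rintro x y ⟨ξ, hξ, hx⟩ ⟨η, hη, hy⟩
    exact ⟨ξ * η, mul_mem hξ hη, hx.mul hy⟩
  inv_mem' := by
    rintro x ⟨ξ, hξ, hx⟩
    exact ⟨ξ⁻¹, inv_mem hξ, hx.inv⟩

/-- **The conjugates of the action of `d` on a copy.** -/
theorem W (hT : Three a) (h : ACfg 3 Γ C D) {c d : MulAut K} (hc : c ∈ C) (hd : d ∈ D) {i j k : Fin 3}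
    (hij : i ≠ j) (hik : i ≠ k) {γ₁ γ₂ γ₃ : MulAut L}
    (h1 : Acts a c i j γ₁) (_h2 : Acts a c j k γ₂) (h3 : Acts a c k i γ₃) {δ₁ δ₂ δ₃ : MulAut L}
    (k1 : Acts a d i i δ₁) (k2 : Acts a d j j δ₂) (k3 : Acts a d k k δ₃) :
    ∃ R : Subgroup (MulAut L), IsPGroup 3 R ∧ ∀ l, MulAut.conj l * δ₁ * (MulAut.conj l)⁻¹ ∈ R := by
  set R := Ind a (Subgroup.closure {c, d}) i with hR
  refine ⟨R, hT.ind_pGroup (h.pair c hc d hd), fun l => ?_⟩
  have hcP : c ∈ Subgroup.closure ({c, d} : Set (MulAut K)) := Subgroup.subset_closure (by simp)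
  have hdP : d ∈ Subgroup.closure ({c, d} : Set (MulAut K)) := Subgroup.subset_closure (by simp)
  -- the conjugate
  set n : MulAut K := MulAut.conj (a i l) with hn
  have hdl : n * d * n⁻¹ ∈ D := conj_mem h _ hd
  have nj : Acts a n j j 1 := hT.conj_other hij l
  have nk : Acts a n k k 1 := hT.conj_other hik l
  have ni : Acts a n i i (MulAut.conj l) := Acts.conj_self l
  -- the actions of the conjugates of `d` by `c`
  have e1 : Acts a (c * d * c⁻¹) i i (γ₃ * δ₃ * γ₃⁻¹) := (h3.mul k3).mul h3.inv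
  have e2 : Acts a (c⁻¹ * d * c) i i (γ₁⁻¹ * δ₂ * γ₁) := (h1.inv.mul k2).mul h1
  have m1 : γ₃ * δ₃ * γ₃⁻¹ ∈ R := ⟨_, mul_mem (mul_mem hcP hdP) (inv_mem hcP), e1⟩
  have m2 : γ₁⁻¹ * δ₂ * γ₁ ∈ R := ⟨_, mul_mem (mul_mem (inv_mem hcP) hdP) hcP, e2⟩
  have e3 : Acts a (c * (n * d * n⁻¹) * c⁻¹) i i (γ₃ * δ₃ * γ₃⁻¹) := by
    have := (h3.mul ((nk.mul k3).mul nk.inv)).mul h3.inv
    rwa [one_mul, inv_one, mul_one] at this
  have e4 : Acts a (c⁻¹ * (n * d * n⁻¹) * c) i i (γ₁⁻¹ * δ₂ * γ₁) := by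
    have := (h1.inv.mul ((nj.mul k2).mul nj.inv)).mul h1
    rwa [one_mul, inv_one, mul_one] at this
  obtain ⟨ξ, hξ, hx⟩ := h.key3 hc hdl (M := Stab a R i) ⟨_, m1, e3⟩ ⟨_, m2, e4⟩
  have := (ni.mul k1).mul ni.inv
  rw [← hT.unique hx this]
  exact hξ

/-- A group in which the normal `3`-subgroups of the inner automorphism group are trivial. -/
theorem eq_one_of_conj [Finite L] (hL : commutator L = ⊤) (hN : ∀ N : Subgroup L, N.Normal → N = ⊤ ∨ N ≤ Subgroup.center L)
    {δ : MulAut L} {R : Subgroup (MulAut L)} (hR : IsPGroup 3 R)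
    (h : ∀ l, MulAut.conj l * δ * (MulAut.conj l)⁻¹ ∈ R) : δ = 1 := by
  -- the subgroup of the `l` with `conj l ∈ ⋂ conj R`
  let N : Subgroup L :=
    { carrier := {l | ∀ m, MulAut.conj (m * l * m⁻¹) ∈ R}
      one_mem' := fun m => by
        have : m * 1 * m⁻¹ = 1 := by group
        rw [this, map_one]; exact one_mem _
      mul_mem' := fun {l l'} hl hl' m => by
        have : m * (l * l') * m⁻¹ = (m * l * m⁻¹) * (m * l' * m⁻¹) := by group
        rw [this, map_mul]; exact mul_mem (hl m) (hl' m)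
      inv_mem' := fun {l} hl m => by
        have : m * l⁻¹ * m⁻¹ = (m * l * m⁻¹)⁻¹ := by group
        rw [this, map_inv]; exact inv_mem (hl m) }
  have hNn : N.Normal := ⟨fun l hl g m => by
    have := hl (m * g)
    have e : m * (g * l * g⁻¹) * m⁻¹ = m * g * l * (m * g)⁻¹ := by group
    rwa [e]⟩
  have hkey : ∀ l m, MulAut.conj (m * (l * (δ l)⁻¹) * m⁻¹) ∈ R := by
    intro l m
    have e : ∀ l, MulAut.conj (l * (δ l)⁻¹) = (MulAut.conj l * δ * (MulAut.conj l)⁻¹) * δ⁻¹ := by
      intro l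
      rw [eq_mul_inv_iff_mul_eq]
      ext z
      rw [MulAut.mul_apply, MulAut.conj_apply, MulAut.mul_apply, MulAut.mul_apply, MulAut.conj_inv_apply,
        MulAut.conj_apply, map_mul, map_mul, map_inv]
      group
    have e2 : m * (l * (δ l)⁻¹) * m⁻¹ = (m * l) * (δ (m * l))⁻¹ * (m * (δ m)⁻¹)⁻¹ := by
      rw [map_mul]; group
    have h1 : δ ∈ R := by
      have := h 1
      rwa [map_one, one_mul, inv_one, mul_one] at this
    rw [e2, map_mul, map_inv, e, e]
    exact mul_mem (mul_mem (h _) (inv_mem h1)) (inv_mem (mul_mem (h _) (inv_mem h1)))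
  have hZ : N ≤ Subgroup.center L := by
    rcases hN N hNn with h1 | h1
    · -- `Inn L` would be a `3`-group
      have h2 : (MulAut.conj : L →* MulAut L).range ≤ R := by
        rintro _ ⟨l, rfl⟩
        have : l ∈ N := by rw [h1]; exact Subgroup.mem_top l
        have := this 1
        simpa using this
      have h3 : IsPGroup 3 (MulAut.conj : L →* MulAut L).range := hR.to_le h2
      have : Fact (Nat.Prime 3) := ⟨Nat.prime_three⟩
      have h4 : Group.IsNilpotent (MulAut.conj : L →* MulAut L).range := h3.isNilpotent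
      have h5 : commutator (MulAut.conj : L →* MulAut L).range = ⊤ := by
        have := congrArg (Subgroup.map (MulAut.conj : L →* MulAut L).rangeRestrict) hL
        rw [_root_.commutator_def, Subgroup.map_commutator, ← MonoidHom.range_eq_map, MonoidHom.range_eq_top.mpr
          (MonoidHom.rangeRestrict_surjective _)] at this
        exact this
      have h6 : Subsingleton (MulAut.conj : L →* MulAut L).range := by
        by_contra hne
        rw [not_subsingleton_iff_nontrivial] at hne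
        have h7 : Group.IsSolvable (MulAut.conj : L →* MulAut L).range := inferInstance
        have h8 := Group.IsSolvable.commutator_lt_top_of_nontrivial (G := (MulAut.conj : L →* MulAut L).range)
        rw [h5] at h8
        exact lt_irrefl _ h8
      intro l _
      rw [Subgroup.mem_center_iff]
      intro g
      have h7 : MulAut.conj l = 1 := by
        have := h6.elim ⟨MulAut.conj l, l, rfl⟩ 1
        exact congrArg Subtype.val this
      have h8 : MulAut.conj l g = g := by rw [h7]; rfl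
      rw [MulAut.conj_apply, mul_inv_eq_iff_eq_mul] at h8
      exact h8.symm
    · exact h1
  -- `δ` is trivial modulo the centre
  have h1 : ∀ l, l * (δ l)⁻¹ ∈ Subgroup.center L := fun l => hZ (fun m => hkey l m)
  have h2 : (commutator L) ≤ MonoidHom.eqLocus (δ : L →* L) (MonoidHom.id L) := by
    rw [_root_.commutator_def, Subgroup.commutator_le]
    intro g _ m _
    show δ ⁅g, m⁆ = ⁅g, m⁆
    have hg := Subgroup.mem_center_iff.mp (h1 g)
    have hm := Subgroup.mem_center_iff.mp (h1 m)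
    set zg := g * (δ g)⁻¹ with hzg
    set zm := m * (δ m)⁻¹ with hzm
    have e1 : g = zg * δ g := by rw [hzg]; group
    have e2 : m = zm * δ m := by rw [hzm]; group
    have hg' : ∀ w, w * zg⁻¹ = zg⁻¹ * w := fun w => by
      rw [eq_inv_mul_iff_mul_eq, ← mul_assoc, ← hg w, mul_assoc, mul_inv_cancel, mul_one]
    have hm' : ∀ w, w * zm⁻¹ = zm⁻¹ * w := fun w => by
      rw [eq_inv_mul_iff_mul_eq, ← mul_assoc, ← hm w, mul_assoc, mul_inv_cancel, mul_one]
    rw [map_commutatorElement]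
    conv_rhs => rw [e1, e2]
    rw [commutatorElement_def, commutatorElement_def]
    simp only [mul_inv_rev]
    symm
    calc zg * δ g * (zm * δ m) * ((δ g)⁻¹ * zg⁻¹) * ((δ m)⁻¹ * zm⁻¹)
        = zg * (δ g * zm) * δ m * (δ g)⁻¹ * (zg⁻¹ * (δ m)⁻¹) * zm⁻¹ := by group
      _ = zg * (zm * δ g) * δ m * (δ g)⁻¹ * ((δ m)⁻¹ * zg⁻¹) * zm⁻¹ := by rw [hm (δ g), hg' (δ m)⁻¹]
      _ = (zg * zm) * (δ g * δ m * (δ g)⁻¹ * (δ m)⁻¹) * zg⁻¹ * zm⁻¹ := by group
      _ = (δ g * δ m * (δ g)⁻¹ * (δ m)⁻¹) * (zg * zm) * zg⁻¹ * zm⁻¹ := by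
          have : (δ g * δ m * (δ g)⁻¹ * (δ m)⁻¹) * (zg * zm) = (zg * zm) * (δ g * δ m * (δ g)⁻¹ * (δ m)⁻¹) := by
            rw [← mul_assoc, hg, mul_assoc, hm, ← mul_assoc]
          rw [this]
      _ = (δ g * δ m * (δ g)⁻¹ * (δ m)⁻¹) * (zg * zm * zg⁻¹ * zm⁻¹) := by group
      _ = _ := by
          have : zg * zm * zg⁻¹ * zm⁻¹ = 1 := by rw [hm zg]; group
          rw [this, mul_one]
  ext l
  have : l ∈ commutator L := by rw [hL]; exact Subgroup.mem_top l
  exact h2 this

/-! ### the same permutation -/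

/-- **The coset `γ δ Inn L`.** -/
theorem swap (hT : Three a) (h : ACfg 3 Γ C D) {c d : MulAut K} (hc : c ∈ C) (hd : d ∈ D) {i j : Fin 3}
    (hij : i ≠ j) {x y : MulAut K} (hx : x = c ∨ x = c⁻¹) (hy : y = d ∨ y = d⁻¹) {γ δ : MulAut L}
    (h1 : Acts a x j i γ) (h2 : Acts a y i j δ) (l : L) : ∃ n : ℕ, (γ * δ * MulAut.conj l) ^ 3 ^ n = 1 := by
  set n : MulAut K := MulAut.conj (a i l⁻¹) with hn
  have hdl : n * d * n⁻¹ ∈ D := conj_mem h _ hd
  have hp := h.pair c hc _ hdl
  have hx' : x ∈ Subgroup.closure ({c, n * d * n⁻¹} : Set (MulAut K)) := by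
    have : c ∈ Subgroup.closure ({c, n * d * n⁻¹} : Set (MulAut K)) := Subgroup.subset_closure (by simp)
    rcases hx with rfl | rfl
    · exact this
    · exact inv_mem this
  have hy' : n * y * n⁻¹ ∈ Subgroup.closure ({c, n * d * n⁻¹} : Set (MulAut K)) := by
    have : n * d * n⁻¹ ∈ Subgroup.closure ({c, n * d * n⁻¹} : Set (MulAut K)) := Subgroup.subset_closure (by simp)
    rcases hy with rfl | rfl
    · exact this
    · have e : n * d⁻¹ * n⁻¹ = (n * d * n⁻¹)⁻¹ := by group
      rw [e]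
      exact inv_mem this
  obtain ⟨m, hm⟩ := hp ⟨x * (n * y * n⁻¹), mul_mem hx' hy'⟩
  have hm' : (x * (n * y * n⁻¹)) ^ 3 ^ m = 1 := congrArg Subtype.val hm
  have nj : Acts a n j j 1 := hT.conj_other hij _
  have ni : Acts a n⁻¹ i i (MulAut.conj l) := by
    have e : MulAut.conj l = (MulAut.conj l⁻¹)⁻¹ := by rw [map_inv, inv_inv]
    rw [e]
    exact (Acts.conj_self (a := a) (i := i) l⁻¹).inv
  have e1 : Acts a (x * (n * y * n⁻¹)) i i (γ * (1 * δ * MulAut.conj l)) := h1.mul ((nj.mul h2).mul ni)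
  rw [one_mul, ← mul_assoc] at e1
  exact ⟨m, hT.eq_one e1 hm'⟩

/-! ### the vector argument -/

theorem sign_choice (e : Fin 3 → ZMod 3) (he : e ≠ 0) : ∃ (s : Fin 3 → Bool) (f : Fin 3 → ZMod 3),
    (∑ i, f i * (if s (i - 1) then - e (i - 1) else e (i - 1))) = 0 ∧
    (∑ i, f i * (if s (i + 1) then - e (i + 1) else e (i + 1))) = 0 ∧
    (∑ i, f i * (if s i then - e i else e i)) ≠ 0 := by
  revert e
  decide +kernel

/-- the elements which act on the copies by powers of `u` with a linear relation between the exponents -/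
def MF (a : Fin 3 → L →* K) (U : ZMod 3 → L) (hU : ∀ s t, U (s + t) = U s * U t) (f : Fin 3 → ZMod 3) :
    Subgroup (MulAut K) where
  carrier := {x | ∃ n : Fin 3 → ZMod 3, (∀ i, Acts a x i i (MulAut.conj (U (n i)))) ∧ ∑ i, f i * n i = 0}
  one_mem' := ⟨0, fun i => by
    have : U 0 = 1 := by
      have := hU 0 0
      rw [add_zero] at this
      exact (left_eq_mul.mp this)
    rw [Pi.zero_apply, this, map_one]
    exact Acts.one, by simp⟩
  mul_mem' := by
    rintro x y ⟨n, hn, hf⟩ ⟨m, hm, hg⟩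
    refine ⟨n + m, fun i => ?_, ?_⟩
    · rw [Pi.add_apply, hU, map_mul]
      exact (hn i).mul (hm i)
    · simp only [Pi.add_apply, mul_add, Finset.sum_add_distrib, hf, hg, add_zero]
  inv_mem' := by
    rintro x ⟨n, hn, hf⟩
    refine ⟨-n, fun i => ?_, ?_⟩
    · have h0 : U 0 = 1 := by
        have := hU 0 0
        rw [add_zero] at this
        exact (left_eq_mul.mp this)
      have : U ((-n) i) = (U (n i))⁻¹ := by
        rw [eq_inv_iff_mul_eq_one, ← hU, Pi.neg_apply, neg_add_cancel, h0]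
      rw [this, map_inv]
      exact (hn i).inv
    · simp only [Pi.neg_apply, mul_neg, Finset.sum_neg_distrib, hf, neg_zero]

/-- **The vector argument.** -/
theorem vec (hT : Three a) (h : ACfg 3 Γ C D) {c d : MulAut K} (hc : c ∈ C) (hd : d ∈ D)
    (hca : ∀ i, Acts a c i (i + 1) 1) {U : ZMod 3 → L} (hU : ∀ s t, U (s + t) = U s * U t)
    (hU1 : ∀ s, MulAut.conj (U s) = 1 → s = 0) {w : L} (hw : ∀ s, w * U s * w⁻¹ = U (-s)) {e : Fin 3 → ZMod 3}
    (hda : ∀ i, Acts a d i i (MulAut.conj (U (e i)))) (he : e ≠ 0) : False := by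
  obtain ⟨s, f, h1, h2, h3⟩ := sign_choice e he
  set e' : Fin 3 → ZMod 3 := fun i => if s i then - e i else e i with he'
  -- the conjugating element
  let v : Fin 3 → L := fun i => if s i then w else 1
  set n : MulAut K := MulAut.conj (a 0 (v 0) * a 1 (v 1) * a 2 (v 2)) with hn
  have hni : ∀ i, Acts a n i i (MulAut.conj (v i)) := by
    intro i
    rw [hn, map_mul, map_mul]
    fin_cases i
    · have := ((Acts.conj_self (a := a) (i := 0) (v 0)).mul (hT.conj_other (i := 1) (j := 0) (by decide) (v 1))).mul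
        (hT.conj_other (i := 2) (j := 0) (by decide) (v 2))
      rwa [mul_one, mul_one] at this
    · have := ((hT.conj_other (i := 0) (j := 1) (by decide) (v 0)).mul (Acts.conj_self (a := a) (i := 1) (v 1))).mul
        (hT.conj_other (i := 2) (j := 1) (by decide) (v 2))
      rwa [one_mul, mul_one] at this
    · have := ((hT.conj_other (i := 0) (j := 2) (by decide) (v 0)).mul (hT.conj_other (i := 1) (j := 2) (by decide) (v 1))).mul
        (Acts.conj_self (a := a) (i := 2) (v 2))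
      rwa [one_mul, one_mul] at this
  have hdl : n * d * n⁻¹ ∈ D := conj_mem h _ hd
  have hdi : ∀ i, Acts a (n * d * n⁻¹) i i (MulAut.conj (U (e' i))) := by
    intro i
    have := ((hni i).mul (hda i)).mul (hni i).inv
    have e1 : MulAut.conj (v i) * MulAut.conj (U (e i)) * (MulAut.conj (v i))⁻¹ = MulAut.conj (U (e' i)) := by
      rw [← map_inv, ← map_mul, ← map_mul]
      congr 1
      simp only [v, he']
      by_cases hs : s i
      · rw [if_pos hs, if_pos hs, hw]
      · rw [if_neg hs, if_neg hs, inv_one, mul_one, one_mul]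
    rwa [e1] at this
  have m1 : c * (n * d * n⁻¹) * c⁻¹ ∈ MF a U hU f := by
    refine ⟨fun i => e' (i - 1), fun i => ?_, h1⟩
    have hci : Acts a c (i - 1) i 1 := by
      have := hca (i - 1)
      rwa [sub_add_cancel] at this
    have := (hci.mul (hdi (i - 1))).mul hci.inv
    rwa [one_mul, inv_one, mul_one] at this
  have m2 : c⁻¹ * (n * d * n⁻¹) * c ∈ MF a U hU f := by
    refine ⟨fun i => e' (i + 1), fun i => ?_, h2⟩
    have := ((hca i).inv.mul (hdi (i + 1))).mul (hca i)
    rwa [inv_one, one_mul, mul_one] at this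
  obtain ⟨m, hm, hf⟩ := h.key3 hc hdl m1 m2
  apply h3
  rw [← hf]
  refine Finset.sum_congr rfl fun i _ => ?_
  congr 1
  have h4 := hT.unique (hm i) (hdi i)
  have h0 : U 0 = 1 := by
    have := hU 0 0
    rw [add_zero] at this
    exact (left_eq_mul.mp this)
  have h5 : MulAut.conj (U (e' i - m i)) = 1 := by
    have e2 : U (e' i - m i) = U (e' i) * (U (m i))⁻¹ := by
      rw [eq_mul_inv_iff_mul_eq, ← hU, sub_add_cancel]
    rw [e2, map_mul, map_inv, h4, mul_inv_cancel]
  exact sub_eq_zero.mp (hU1 _ h5)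

end Cfsg.Agent.H174.WT.Abs
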