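import Cfsg.Agent.H174.WT.AbsFin
import Cfsg.Agent.H174.WT.Conf
import Cfsg.Agent.H174.WT.Typ
import Cfsg.Agent.H174.WT.NF

/-!
# S3826, triality rows: no triality automorphism in a minimal configuration, `3 ∤ q` (helper174)

`false_tri` : in a configuration in `Aut (PΩ⁺_8(q))`, `3 ∤ q`, every element of `C` is induced by a semisimilarity.
-/

set_option autoImplicit false
set_option linter.unusedSectionVars false

namespace Cfsg.Agent.H174.WT.Kill

open Module QuadraticMap Matrix Cfsg.Agent.LieClassical.OrthCore Cfsg.Agent.LieClassical.OrthTrans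
  Cfsg.Agent.LieClassical.OrthSimple Cfsg.Agent.ClassicalGeometry.OrthAut1
  Cfsg.Agent.ClassicalGeometry.OrthSemi Cfsg.Agent.H198.Classes
  Cfsg.Agent.LieClassical.QuadForms Cfsg.Agent.H198.ClassesPlus
  Cfsg.Agent.ClassicalGeometry.TrialityOct Cfsg.Agent.ClassicalGeometry.Triality
  Cfsg.Agent.ClassicalGeometry.TrialitySpaces Cfsg.Agent.H198.TriBase Cfsg.Agent.H198.TriAut
  Cfsg.Agent.H198.TriDia
open Cfsg.Agent.H862.T5.OPlusFour (M2 detQ detQ_apply polar_detQ detQ_eq_det nondeg_detQ finrank_M2)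
open Cfsg.Agent.H862.T5.OFrame (Emb Cov exists_common)
open Cfsg.Agent.H862.T5.OBase (exists_scal Psi_E)
open Cfsg.Agent.H208.Parity (ofO ofO_apply)
open Cfsg.Agent.H174.WT.Abs Cfsg.Agent.H174.WT.SL Cfsg.Agent.H174.WT.Mod Cfsg.Agent.H174.WT.Four
  Cfsg.Agent.H174.WT.Typ Cfsg.Agent.H174.WT.NF Cfsg.Agent.H174.WT.Conf Cfsg.Agent.H533.Wf
open scoped MatrixGroups

universe u

variable {F : Type u} [Field F] {Γ : Subgroup (MulAut (P8 F))} {C D : Set (MulAut (P8 F))}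

/-- `d` is a semisimilarity -/
theorem false_in [Fintype F] (hG : Good (plusForm 4 F)) (h3 : (3 : F) ≠ 0) (h : ACfg 3 Γ C D) {c d : MulAut (P8 F)}
    (hc : c ∈ C) (hd : d ∈ D) {γ : MulAut SL(2, F)} (hγ : Fintype.card F = 2 → γ = 1)
    (hca : ∀ i, Acts a3 c i (i + 1) γ) (hdr : d ∈ (Psi (plusForm 4 F)).range) : False := by
  have : Finite (P8 F) := ClassicalGeometry.OrthAut2b.finite_P
  obtain ⟨M, rfl⟩ := hdr
  have ho := h.ordD _ hd
  have h1 : Psi (plusForm 4 F) M ^ 3 = 1 := by rw [← ho]; exact pow_orderOf_eq_one _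
  have h2 : Psi (plusForm 4 F) M ≠ 1 := by
    intro h2
    rw [h2, orderOf_one] at ho
    exact absurd ho (by norm_num)
  obtain ⟨k, hk, hk2⟩ := exists_good hG h3 h1 h2
  exact AbsFin.false_one h3 (three hG) h hc (conj_mem h k hd) hγ hca hk ⟨2, hk2⟩

/-- the embedding used for the outer case -/
def jM (M : G8 F) {σ : F ≃+* F} {c : F} (hs : IsSS (plusForm 4 F) σ c M.1) (D : M2 F) : M2 F →ₗ[F] V8 F where
  toFun u := M.1 (J 0 (D * u.map σ.symm))
  map_add' u v := by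
    have e : (u + v).map σ.symm = u.map σ.symm + v.map σ.symm := by ext i j; simp
    rw [e, mul_add, ← hs.add, J_add, add_zero]
  map_smul' a u := by
    have e : (a • u).map σ.symm = σ.symm a • u.map σ.symm := by ext i j; simp
    rw [e, Matrix.mul_smul, RingHom.id_apply]
    have e2 : J 0 (σ.symm a • (D * u.map σ.symm)) = σ.symm a • J 0 (D * u.map σ.symm) := by
      rw [J_smul, smul_zero]
    rw [e2, hs.smul, RingEquiv.apply_symm_apply]

theorem emb_jM {M : G8 F} {σ : F ≃+* F} {c : F} (hs : IsSS (plusForm 4 F) σ c M.1) {D : M2 F}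
    (hD : c * σ D.det = 1) : Emb (plusForm 4 F) (detQ F) (jM M hs D) := ⟨fun u => by
  show plusForm 4 F (M.1 (J 0 (D * u.map σ.symm))) = _
  rw [hs.form, norm_J, Matrix.det_zero, zero_add, Matrix.det_mul, map_mul, ← mul_assoc, hD, one_mul, detQ_eq_det,
    Four.det_map', RingEquiv.apply_symm_apply]⟩

/-- the permutation `Y ↦ σ(D⁻¹ Y)` -/
noncomputable def pM (σ : F ≃+* F) (D : M2 F) (hD : IsUnit D.det) : Equiv.Perm (M2 F) where
  toFun Y := (D⁻¹ * Y).map σ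
  invFun u := D * u.map σ.symm
  left_inv Y := by
    beta_reduce
    rw [map_symm, ← mul_assoc, Matrix.mul_nonsing_inv _ hD, one_mul]
  right_inv u := by
    beta_reduce
    rw [← mul_assoc, Matrix.nonsing_inv_mul _ hD, one_mul, symm_map]

/-- the element `T M` -/
theorem exists_T [Fintype F] (hG : Good (plusForm 4 F)) (M : G8 F) :
    ∃ (T : V8 F ≃ₗ[F] V8 F) (hT : T ∈ E (plusForm 4 F)) (A B : M2 F) (σ : F ≃+* F),
      Spl (ofO T (E_le_O hT) * M) ∧ Rgt (ofO T (E_le_O hT) * M) A B σ := by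
  obtain ⟨σ, c, hs⟩ := M.2
  set D : M2 F := !![σ.symm c⁻¹, 0; 0, 1] with hDdef
  have hdet : D.det = σ.symm c⁻¹ := by rw [hDdef, Matrix.det_fin_two_of]; ring
  have hD : c * σ D.det = 1 := by
    rw [hdet, RingEquiv.apply_symm_apply, mul_inv_cancel₀ hs.ne]
  have hDu : IsUnit D.det := by
    rw [isUnit_iff_ne_zero]
    intro h
    rw [h, map_zero, mul_zero] at hD
    exact zero_ne_one hD
  obtain ⟨T, hT, hTj⟩ := exists_common hG nondeg_detQ (emb_j1 (F := F)) (emb_jM hs hD) (by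
    rw [finrank_M2]
    simp)
  have hY : ∀ Y, (ofO T (E_le_O hT) * M).1 (J 0 Y) = J 0 (pM σ D hDu Y) := by
    intro Y
    have e : Y = D * (pM σ D hDu Y).map σ.symm := ((pM σ D hDu).symm_apply_apply Y).symm
    have e2 := hTj (pM σ D hDu Y)
    show T (M.1 (J 0 Y)) = _
    rw [j1_apply] at e2
    rw [← e2]
    show _ = T (M.1 (J 0 (D * (pM σ D hDu Y).map σ.symm)))
    rw [← e]
  refine ⟨T, hT, (D⁻¹).map σ, 1, σ, spl_of_right hY, ?_, ?_, fun Y => ?_⟩
  · rw [Four.det_map']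
    intro h0
    exact inv_det_ne hDu.ne_zero ((map_eq_zero_iff σ σ.injective).mp h0)
  · rw [Matrix.det_one]
    exact one_ne_zero
  · rw [hY, mul_one, ← map_mul_map]
    rfl

theorem sub_facts : ∀ i : Fin 3, (2 - i) + 1 = -i ∧ 2 - (-i) = i - 1 ∧ 2 - (2 - i) = i := by decide

theorem swap_cases : ∀ i j : Fin 3, j = 2 - i → (i = 0 ∧ j = 2) ∨ (i = 1 ∧ j = 1) ∨ (i = 2 ∧ j = 0) := by decide

set_option maxHeartbeats 2000000 in
/-- the action of the conjugate -/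
theorem acts_conj [Fintype F] (hG : Good (plusForm 4 F)) {N : G8 F} (hS : Spl N) {A B : M2 F} {σ : F ≃+* F}
    (hR : Rgt N A B σ) {x : MulAut (P8 F)} {γ : MulAut SL(2, F)} (hγ : γ ∈ SC F) (hact : ∀ i, Acts a3 x i (i + 1) γ) :
    (∀ i, ∃ δ ∈ SC F, Acts a3 (Psi (plusForm 4 F) N * x * (Psi (plusForm 4 F) N)⁻¹) i (i + 1) δ) ∨
      ∀ i, ∃ δ ∈ SC F, Acts a3 (Psi (plusForm 4 F) N * x * (Psi (plusForm 4 F) N)⁻¹) i (i - 1) δ := by
  obtain ⟨τ₀, m, hs⟩ := N.2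
  obtain ⟨A₁, B₁, hL | hL⟩ := (four hS hs).1
  · left
    have hN' : ∀ i, ∃ ξ ∈ SC F, Acts a3 (Psi (plusForm 4 F) N) i i ξ := by
      intro i
      fin_cases i
      · exact hL.acts0 hG hS
      · exact hR.acts hG hS
      · exact hL.acts2 hG hS
    intro i
    obtain ⟨ξ, hξ, hξa⟩ := hN' i
    obtain ⟨η, hη, hηa⟩ := hN' (i + 1)
    exact ⟨_, mul_mem (mul_mem hη hγ) (inv_mem hξ), (hηa.mul (hact i)).mul hξa.inv⟩
  · right
    have hN' : ∀ i j : Fin 3, j = 2 - i → ∃ ξ ∈ SC F, Acts a3 (Psi (plusForm 4 F) N) i j ξ := by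
      intro i j hij
      obtain ⟨rfl, rfl⟩ | ⟨rfl, rfl⟩ | ⟨rfl, rfl⟩ := swap_cases i j hij
      · exact hL.acts02 hG hS
      · exact hR.acts hG hS
      · exact hL.acts20 hG hS
    intro i
    obtain ⟨f1, f2, f3⟩ := sub_facts i
    obtain ⟨ξ, hξ, hξa⟩ := hN' (2 - i) i f3.symm
    obtain ⟨η, hη, hηa⟩ := hN' (-i) (i - 1) f2.symm
    have h5 := hact (2 - i)
    rw [f1] at h5
    exact ⟨_, mul_mem (mul_mem hη hγ) (inv_mem hξ), (hηa.mul h5).mul hξa.inv⟩

theorem mul_Psi_E {T : V8 F ≃ₗ[F] V8 F} (hT : T ∈ E (plusForm 4 F)) (M : G8 F) :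
    Psi (plusForm 4 F) (ofO T (E_le_O hT) * M) =
      MulAut.conj (QuotientGroup.mk (⟨T, hT⟩ : ↥(E (plusForm 4 F))) : P8 F) * Psi (plusForm 4 F) M := by
  rw [MonoidHom.map_mul, Psi_E hT]

/-- an outer automorphism of order three is, up to inversion and an inner automorphism, in a good position -/
theorem exists_out [Fintype F] (hG : Good (plusForm 4 F)) (h3 : (3 : F) ≠ 0) {d : MulAut (P8 F)}
    (h1 : d ^ 3 = 1) (hdr : d ∉ (Psi (plusForm 4 F)).range) : ∃ (k : P8 F) (y : MulAut (P8 F)), (y = d ∨ y = d⁻¹) ∧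
      ((∀ i, ∃ δ ∈ SC F, Acts a3 (MulAut.conj k * y * (MulAut.conj k)⁻¹) i (i + 1) δ) ∨
        ∀ i, ∃ δ ∈ SC F, Acts a3 (MulAut.conj k * y * (MulAut.conj k)⁻¹) i (i - 1) δ) := by
  obtain ⟨α, σ, B, τ, hn, hx⟩ := exists_nf h3 hG hdr h1
  obtain ⟨y, hy, hyx⟩ : ∃ y, (y = d ∨ y = d⁻¹) ∧ α * y * α⁻¹ = xt hG τ := by
    rcases hx with hx | hx
    · exact ⟨d, Or.inl rfl, hx⟩
    · exact ⟨d⁻¹, Or.inr rfl, hx⟩
  obtain ⟨i, M, -, hα⟩ := aut_cases hG α
  have hcomm : Commute (rho hG ^ i) (xt hG τ) := by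
    apply Commute.pow_left
    have h5 := rho_comm hG hn.tri
    show rho hG * xt hG τ = xt hG τ * rho hG
    rw [xt, ← mul_assoc, h5, mul_assoc]
  have hyM : y = Psi (plusForm 4 F) M⁻¹ * xt hG τ * (Psi (plusForm 4 F) M⁻¹)⁻¹ := by
    have gen : ∀ {G : Type u} [Group G] (a b r x : G), Commute r x → (r * b) * a * (r * b)⁻¹ = x →
        a = b⁻¹ * x * (b⁻¹)⁻¹ := by
      intro G _ a b r x hrx h
      have e : b * a * b⁻¹ = r⁻¹ * x * r := by rw [← h]; group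
      have e2 : r⁻¹ * x * r = x := by rw [mul_assoc, ← hrx.eq, inv_mul_cancel_left]
      rw [e2] at e
      rw [← e]
      group
    rw [MonoidHom.map_inv]
    exact gen _ _ _ _ hcomm (by rw [← hα]; exact hyx)
  obtain ⟨T, hT, A, B', σ₀, hS, hR⟩ := exists_T hG M⁻¹
  obtain ⟨γ', hγ', -, hact⟩ := hn.acts hG
  refine ⟨QuotientGroup.mk (⟨T, hT⟩ : ↥(E (plusForm 4 F))), y, hy, ?_⟩
  have h5 := acts_conj hG hS hR hγ' hact
  rw [mul_Psi_E] at h5
  have gen : ∀ {G : Type u} [Group G] (a b x : G), a * b * x * (a * b)⁻¹ = a * (b * x * b⁻¹) * a⁻¹ := by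
    intro G _ a b x
    group
  rw [gen, ← hyM] at h5
  exact h5

/-- `d` is not a semisimilarity -/
theorem false_out [Fintype F] (hG : Good (plusForm 4 F)) (h3 : (3 : F) ≠ 0) (h : ACfg 3 Γ C D)
    {c d : MulAut (P8 F)} (hc : c ∈ C) (hd : d ∈ D) {γ : MulAut SL(2, F)} (hγ : γ ∈ SC F)
    (hca : ∀ i, Acts a3 c i (i + 1) γ) (hdr : d ∉ (Psi (plusForm 4 F)).range) : False := by
  have : Finite (P8 F) := ClassicalGeometry.OrthAut2b.finite_P
  have ho := h.ordD _ hd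
  have h1 : d ^ 3 = 1 := by rw [← ho]; exact pow_orderOf_eq_one _
  obtain ⟨k, y, hy, hact⟩ := exists_out hG h3 h1 hdr
  have hy' : MulAut.conj k * y * (MulAut.conj k)⁻¹ = MulAut.conj k * d * (MulAut.conj k)⁻¹ ∨
      MulAut.conj k * y * (MulAut.conj k)⁻¹ = (MulAut.conj k * d * (MulAut.conj k)⁻¹)⁻¹ := by
    rcases hy with rfl | rfl
    · exact Or.inl rfl
    · right
      group
  exact AbsFin.false_two (three hG) h hc (conj_mem h k hd) hγ hca hy' hact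

/-- **No triality automorphism**, `3 ∤ q`. -/
theorem false_tri [Fintype F] (hG : Good (plusForm 4 F)) (h3 : (3 : F) ≠ 0) (h : ACfg 3 Γ C D)
    {c : MulAut (P8 F)} (hc : c ∈ C) (hx : c ∉ (Psi (plusForm 4 F)).range) : False := by
  have : Finite (P8 F) := ClassicalGeometry.OrthAut2b.finite_P
  have h1 : c ^ 3 = 1 := by rw [← h.ordC _ hc]; exact pow_orderOf_eq_one _
  obtain ⟨α, σ, B, τ, hn, hx⟩ := exists_nf h3 hG hx h1
  obtain ⟨γ, hγ, hγg, hact⟩ := hn.acts hG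
  have key : ∀ {Γ : Subgroup (MulAut (P8 F))} {C D : Set (MulAut (P8 F))}, ACfg 3 Γ C D → xt hG τ ∈ C → False := by
    intro Γ C D h hc
    obtain ⟨d, hd⟩ := h.neD
    by_cases hdr : d ∈ (Psi (plusForm 4 F)).range
    · exact false_in hG h3 h hc hd (gamma_one hγg) hact hdr
    · exact false_out hG h3 h hc hd hγ hact hdr
  rcases hx with hx | hx
  · refine key (conjAut h α) ⟨c, hc, ?_⟩
    rw [MulAut.conj_apply]
    exact hx
  · refine key (conjAut (invLeft h) α) ⟨c⁻¹, ?_, ?_⟩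
    · show (c⁻¹)⁻¹ ∈ C
      rw [inv_inv]
      exact hc
    · rw [MulAut.conj_apply]
      exact hx

end Cfsg.Agent.H174.WT.Kill
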