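import Cfsg.Agent.H198.TriDia
import Cfsg.Agent.H862.T5.OPlusFour
import Cfsg.Agent.H174.WT.AbsFin

/-!
# S3826, triality rows: three copies of `SL(2, F)` in `PΩ₈⁺(F)` (helper174)

The octonions are the pairs `(X, Y)` of 2 by 2 matrices, `(X, Y) (X', Y') = (X X' - Y' Ȳ, X̄ Y' + X' Y)`.

* `lA g : (X, Y) ↦ (X, g Y)`, `lB g : (X, Y) ↦ (X g⁻¹, Y)`, `lC g : (X, Y) ↦ (g X, Y)`;
* `a3 hG 0, 1, 2` : the three copies of `SL(2, F)` in `P8 F`; `rho_a3 : ρ (a i g) = a (i + 1) g`; `three`.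
-/

set_option autoImplicit false
set_option linter.unusedSectionVars false

namespace Cfsg.Agent.H174.WT.Mod

open Module QuadraticMap Matrix Cfsg.Agent.LieClassical.OrthCore Cfsg.Agent.LieClassical.OrthTrans
  Cfsg.Agent.LieClassical.OrthSimple Cfsg.Agent.ClassicalGeometry.OrthAut1
  Cfsg.Agent.ClassicalGeometry.OrthSemi Cfsg.Agent.H198.Classes
  Cfsg.Agent.LieClassical.QuadForms Cfsg.Agent.H198.ClassesPlus
  Cfsg.Agent.ClassicalGeometry.TrialityOct Cfsg.Agent.ClassicalGeometry.Triality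
  Cfsg.Agent.ClassicalGeometry.TrialitySpaces Cfsg.Agent.H198.TriBase Cfsg.Agent.H198.TriAut
open Cfsg.Agent.H862.T5.OPlusFour (M2 detQ detQ_apply polar_detQ detQ_eq_det)
open Cfsg.Agent.H862.T5.OFrame (Emb)
open Cfsg.Agent.H174.WT.Abs Cfsg.Agent.H174.WT.SL
open scoped MatrixGroups

universe u

variable {F : Type u} [Field F]

/-! ### coordinates -/

/-- the octonion of a pair of matrices -/
def J (X Y : M2 F) : V8 F :=
  Sum.elim ![X 0 0, X 0 1, Y 1 0, Y 1 1] ![X 1 1, -X 1 0, -Y 0 1, Y 0 0]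

/-- the first matrix -/
def p0 (z : V8 F) : M2 F := !![z (.inl 0), z (.inl 1); -z (.inr 1), z (.inr 0)]

/-- the second matrix -/
def p1 (z : V8 F) : M2 F := !![z (.inr 3), -z (.inr 2); z (.inl 2), z (.inl 3)]

theorem J_p (z : V8 F) : J (p0 z) (p1 z) = z := by
  apply ext8 <;> simp [J, p0, p1]

theorem p0_J (X Y : M2 F) : p0 (J X Y) = X := by
  ext i j
  fin_cases i <;> fin_cases j <;> simp [J, p0]

theorem p1_J (X Y : M2 F) : p1 (J X Y) = Y := by
  ext i j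
  fin_cases i <;> fin_cases j <;> simp [J, p1]

theorem J_inj {X Y X' Y' : M2 F} (h : J X Y = J X' Y') : X = X' ∧ Y = Y' :=
  ⟨by rw [← p0_J X Y, h, p0_J], by rw [← p1_J X Y, h, p1_J]⟩

theorem norm_J (X Y : M2 F) : plusForm 4 F (J X Y) = X.det + Y.det := by
  rw [norm8, Matrix.det_fin_two, Matrix.det_fin_two]
  simp [J]
  ring

theorem J_mul (X Y X' Y' : M2 F) :
    omul (J X Y) (J X' Y') = J (X * X' - Y' * Y.adjugate) (X.adjugate * Y' + X' * Y) := by
  rw [Matrix.adjugate_fin_two, Matrix.adjugate_fin_two]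
  apply ext8 <;>
  simp only [omul_l0, omul_l1, omul_l2, omul_l3, omul_r0, omul_r1, omul_r2, omul_r3] <;>
  simp [J, Matrix.mul_apply, Fin.sum_univ_two, Matrix.vecMul, dotProduct] <;>
  ring

theorem oconj_J (X Y : M2 F) : oconj (J X Y) = J X.adjugate (-Y) := by
  rw [Matrix.adjugate_fin_two]
  apply ext8 <;> simp [J, oconj_l0, oconj_l1, oconj_l2, oconj_l3, oconj_r0, oconj_r1, oconj_r2, oconj_r3]

theorem J_add (X Y X' Y' : M2 F) : J X Y + J X' Y' = J (X + X') (Y + Y') := by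
  apply ext8 <;> simp [J] <;> ring

theorem J_smul (c : F) (X Y : M2 F) : c • J X Y = J (c • X) (c • Y) := by
  apply ext8 <;> simp [J]

theorem p0_add (z w : V8 F) : p0 (z + w) = p0 z + p0 w := by
  rw [← J_p z, ← J_p w, J_add, p0_J, p0_J, p0_J]

theorem p1_add (z w : V8 F) : p1 (z + w) = p1 z + p1 w := by
  rw [← J_p z, ← J_p w, J_add, p1_J, p1_J, p1_J]

theorem p0_smul (c : F) (z : V8 F) : p0 (c • z) = c • p0 z := by
  rw [← J_p z, J_smul, p0_J, p0_J]

theorem p1_smul (c : F) (z : V8 F) : p1 (c • z) = c • p1 z := by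
  rw [← J_p z, J_smul, p1_J, p1_J]

theorem polar_J (X Y X' Y' : M2 F) :
    polar (plusForm 4 F) (J X Y) (J X' Y') = polar (detQ F) X X' + polar (detQ F) Y Y' := by
  rw [polar, J_add, norm_J, norm_J, norm_J, polar, polar]
  simp only [detQ_eq_det]
  ring

/-- the embeddings -/
def j0 (F : Type u) [Field F] : M2 F →ₗ[F] V8 F where
  toFun X := J X 0
  map_add' X Y := by rw [J_add, add_zero]
  map_smul' c X := by rw [RingHom.id_apply, J_smul, smul_zero]

/-- the embeddings -/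
def j1 (F : Type u) [Field F] : M2 F →ₗ[F] V8 F where
  toFun X := J 0 X
  map_add' X Y := by rw [J_add, add_zero]
  map_smul' c X := by rw [RingHom.id_apply, J_smul, smul_zero]

theorem j0_apply (X : M2 F) : j0 F X = J X 0 := rfl

theorem j1_apply (X : M2 F) : j1 F X = J 0 X := rfl

theorem emb_j0 : Emb (plusForm 4 F) (detQ F) (j0 F) := ⟨fun X => by
  rw [j0_apply, norm_J, detQ_eq_det, Matrix.det_zero, add_zero]⟩

theorem emb_j1 : Emb (plusForm 4 F) (detQ F) (j1 F) := ⟨fun X => by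
  rw [j1_apply, norm_J, detQ_eq_det, Matrix.det_zero, zero_add]⟩

/-! ### the three families of maps -/

/-- `(X, Y) ↦ (X, g Y)` -/
def lA (g : SL(2, F)) : V8 F ≃ₗ[F] V8 F where
  toFun z := J (p0 z) (g.1 * p1 z)
  invFun z := J (p0 z) ((g⁻¹).1 * p1 z)
  map_add' z w := by rw [p0_add, p1_add, J_add, mul_add]
  map_smul' c z := by rw [p0_smul, p1_smul, RingHom.id_apply, J_smul, Matrix.mul_smul]
  left_inv z := by
    beta_reduce
    rw [p0_J, p1_J, ← mul_assoc, ← SLTwo.mul_val, inv_mul_cancel]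
    show J (p0 z) (1 * p1 z) = z
    rw [one_mul, J_p]
  right_inv z := by
    beta_reduce
    rw [p0_J, p1_J, ← mul_assoc, ← SLTwo.mul_val, mul_inv_cancel]
    show J (p0 z) (1 * p1 z) = z
    rw [one_mul, J_p]

/-- `(X, Y) ↦ (X g⁻¹, Y)` -/
def lB (g : SL(2, F)) : V8 F ≃ₗ[F] V8 F where
  toFun z := J (p0 z * (g⁻¹).1) (p1 z)
  invFun z := J (p0 z * g.1) (p1 z)
  map_add' z w := by rw [p0_add, p1_add, J_add, add_mul]
  map_smul' c z := by rw [p0_smul, p1_smul, RingHom.id_apply, J_smul, Matrix.smul_mul]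
  left_inv z := by
    beta_reduce
    rw [p0_J, p1_J, mul_assoc, ← SLTwo.mul_val, inv_mul_cancel]
    show J (p0 z * 1) (p1 z) = z
    rw [mul_one, J_p]
  right_inv z := by
    beta_reduce
    rw [p0_J, p1_J, mul_assoc, ← SLTwo.mul_val, mul_inv_cancel]
    show J (p0 z * 1) (p1 z) = z
    rw [mul_one, J_p]

/-- `(X, Y) ↦ (g X, Y)` -/
def lC (g : SL(2, F)) : V8 F ≃ₗ[F] V8 F where
  toFun z := J (g.1 * p0 z) (p1 z)
  invFun z := J ((g⁻¹).1 * p0 z) (p1 z)
  map_add' z w := by rw [p0_add, p1_add, J_add, mul_add]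
  map_smul' c z := by rw [p0_smul, p1_smul, RingHom.id_apply, J_smul, Matrix.mul_smul]
  left_inv z := by
    beta_reduce
    rw [p0_J, p1_J, ← mul_assoc, ← SLTwo.mul_val, inv_mul_cancel]
    show J (1 * p0 z) (p1 z) = z
    rw [one_mul, J_p]
  right_inv z := by
    beta_reduce
    rw [p0_J, p1_J, ← mul_assoc, ← SLTwo.mul_val, mul_inv_cancel]
    show J (1 * p0 z) (p1 z) = z
    rw [one_mul, J_p]

theorem lA_J (g : SL(2, F)) (X Y : M2 F) : lA g (J X Y) = J X (g.1 * Y) := by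
  show J (p0 (J X Y)) (g.1 * p1 (J X Y)) = _
  rw [p0_J, p1_J]

theorem lB_J (g : SL(2, F)) (X Y : M2 F) : lB g (J X Y) = J (X * (g⁻¹).1) Y := by
  show J (p0 (J X Y) * (g⁻¹).1) (p1 (J X Y)) = _
  rw [p0_J, p1_J]

theorem lC_J (g : SL(2, F)) (X Y : M2 F) : lC g (J X Y) = J (g.1 * X) Y := by
  show J (g.1 * p0 (J X Y)) (p1 (J X Y)) = _
  rw [p0_J, p1_J]

theorem ext_J {f g : V8 F ≃ₗ[F] V8 F} (h : ∀ X Y, f (J X Y) = g (J X Y)) : f = g := by
  apply LinearEquiv.ext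
  intro z
  rw [← J_p z]
  exact h _ _

theorem adj_val (g : SL(2, F)) : g.1.adjugate = (g⁻¹).1 := (Matrix.SpecialLinearGroup.coe_inv g).symm

theorem adj_inv_val (g : SL(2, F)) : (g⁻¹).1.adjugate = g.1 := by
  rw [adj_val, inv_inv]

theorem adj_adj (X : M2 F) : X.adjugate.adjugate = X := by
  simp [Matrix.adjugate_adjugate']

theorem val_mul_inv (g : SL(2, F)) : g.1 * (g⁻¹).1 = 1 := by
  rw [← SLTwo.mul_val, mul_inv_cancel]
  rfl

theorem inv_mul_val (g : SL(2, F)) : (g⁻¹).1 * g.1 = 1 := by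
  rw [← SLTwo.mul_val, inv_mul_cancel]
  rfl

theorem kap_J (X Y : M2 F) : kap F (J X Y) = J X.adjugate (-Y) := oconj_J X Y

theorem kap_lA (g : SL(2, F)) : kap F * lA g * kap F = lA g := by
  apply ext_J
  intro X Y
  rw [LinearEquiv.mul_apply, LinearEquiv.mul_apply, kap_J, lA_J, kap_J, lA_J, adj_adj, Matrix.mul_neg, neg_neg]

theorem kap_lB (g : SL(2, F)) : kap F * lB g * kap F = lC g := by
  apply ext_J
  intro X Y
  rw [LinearEquiv.mul_apply, LinearEquiv.mul_apply, kap_J, lB_J, kap_J, lC_J, Matrix.adjugate_mul_distrib, adj_adj,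
    adj_inv_val, neg_neg]

theorem kap_lC (g : SL(2, F)) : kap F * lC g * kap F = lB g := by
  apply ext_J
  intro X Y
  rw [LinearEquiv.mul_apply, LinearEquiv.mul_apply, kap_J, lC_J, kap_J, lB_J, Matrix.adjugate_mul_distrib, adj_adj,
    adj_val, neg_neg]

/-! ### triples -/

theorem tri_of_J {f g h : V8 F ≃ₗ[F] V8 F} (H : ∀ X Y X' Y', f (omul (J X Y) (J X' Y')) = omul (g (J X Y)) (h (J X' Y'))) :
    Tri f g h := by
  intro x y
  rw [← J_p x, ← J_p y]
  exact H _ _ _ _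

theorem tri_lB (g : SL(2, F)) : Tri (lB g) (lA g) (lB g) := by
  apply tri_of_J
  intro X Y X' Y'
  rw [J_mul, lB_J, lA_J, lB_J, J_mul, Matrix.adjugate_mul_distrib, adj_val]
  congr 1
  · rw [sub_mul]
    simp only [mul_assoc]
  · have e : X' * (g⁻¹).1 * (g.1 * Y) = X' * Y := by
      calc X' * (g⁻¹).1 * (g.1 * Y) = X' * ((g⁻¹).1 * g.1) * Y := by simp only [mul_assoc]
        _ = X' * Y := by rw [inv_mul_val, mul_one]
    rw [e]

theorem tri_lA (g : SL(2, F)) : Tri (lA g) (lB g) (lC g) := by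
  apply tri_of_J
  intro X Y X' Y'
  rw [J_mul, lA_J, lB_J, lC_J, J_mul, Matrix.adjugate_mul_distrib, adj_inv_val]
  congr 1
  · congr 1
    calc X * X' = X * ((g⁻¹).1 * g.1) * X' := by rw [inv_mul_val, mul_one]
      _ = _ := by simp only [mul_assoc]
  · rw [mul_add]
    simp only [mul_assoc]

theorem tri_lC (g : SL(2, F)) : Tri (lC g) (lC g) (lA g) := by
  apply tri_of_J
  intro X Y X' Y'
  rw [J_mul, lC_J, lC_J, lA_J, J_mul, Matrix.adjugate_mul_distrib, adj_val]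
  congr 1
  · rw [mul_sub]
    simp only [mul_assoc]
  · congr 1
    calc X.adjugate * Y' = X.adjugate * ((g⁻¹).1 * g.1) * Y' := by rw [inv_mul_val, mul_one]
      _ = _ := by simp only [mul_assoc]

/-! ### elements of `E` -/

theorem mem_E_of_left {j : M2 F →ₗ[F] V8 F} {p : V8 F → M2 F} (hj : Emb (plusForm 4 F) (detQ F) j)
    (hp : ∀ U z, polar (plusForm 4 F) (j U) z = polar (detQ F) U (p z)) (hpa : ∀ z w, p (z + w) = p z + p w)
    (hpj : ∀ U, p (j U) = U) (A : SL(2, F)) :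
    ∃ G ∈ E (plusForm 4 F), ∀ z, G z = z + j (A.1 * p z - p z) := by
  refine Matrix.SL2.transvection_induction
    (fun A : SL(2, F) => ∃ G ∈ E (plusForm 4 F), ∀ z, G z = z + j (A.1 * p z - p z)) ?_ ?_ A
  · intro i k hik c
    have e01 : ∀ X : M2 F, (1 + Matrix.single (0 : Fin 2) 1 c) * X = X + polar (detQ F) !![1, 0; 0, 0] X • !![0, c; 0, 0] -
        polar (detQ F) !![0, c; 0, 0] X • !![1, 0; 0, 0] -
        (detQ F !![0, c; 0, 0] * polar (detQ F) !![1, 0; 0, 0] X) • !![1, 0; 0, 0] := by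
      intro X
      rw [polar_detQ, polar_detQ, detQ_apply]
      ext i k
      fin_cases i <;> fin_cases k <;>
        simp [Matrix.mul_apply, Fin.sum_univ_two, Matrix.single_apply] <;> ring
    have e10 : ∀ X : M2 F, (1 + Matrix.single (1 : Fin 2) 0 c) * X = X + polar (detQ F) !![0, 0; 0, 1] X • !![0, 0; c, 0] -
        polar (detQ F) !![0, 0; c, 0] X • !![0, 0; 0, 1] -
        (detQ F !![0, 0; c, 0] * polar (detQ F) !![0, 0; 0, 1] X) • !![0, 0; 0, 1] := by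
      intro X
      rw [polar_detQ, polar_detQ, detQ_apply]
      ext i k
      fin_cases i <;> fin_cases k <;>
        simp [Matrix.mul_apply, Fin.sum_univ_two, Matrix.single_apply] <;> ring
    have hik' : (i = 0 ∧ k = 1) ∨ (i = 1 ∧ k = 0) := by
      fin_cases i <;> fin_cases k <;> simp_all
    rcases hik' with ⟨rfl, rfl⟩ | ⟨rfl, rfl⟩
    · have hu : plusForm 4 F (j !![1, 0; 0, 0]) = 0 := by rw [hj.form, detQ_apply]; simp
      have hw : polar (plusForm 4 F) (j !![1, 0; 0, 0]) (j !![0, c; 0, 0]) = 0 := by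
        rw [hj.polar, polar_detQ]; simp
      refine ⟨siegel (plusForm 4 F) _ _ hu hw, siegel_mem_E _ _, fun z => ?_⟩
      rw [Matrix.SpecialLinearGroup.transvection_coe]
      show _ = z + j ((1 + Matrix.single (0 : Fin 2) 1 c) * p z - p z)
      rw [e01, siegel_apply, hp, hp, hj.form]
      simp only [map_add, map_sub, map_smul]
      abel
    · have hu : plusForm 4 F (j !![0, 0; 0, 1]) = 0 := by rw [hj.form, detQ_apply]; simp
      have hw : polar (plusForm 4 F) (j !![0, 0; 0, 1]) (j !![0, 0; c, 0]) = 0 := by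
        rw [hj.polar, polar_detQ]; simp
      refine ⟨siegel (plusForm 4 F) _ _ hu hw, siegel_mem_E _ _, fun z => ?_⟩
      rw [Matrix.SpecialLinearGroup.transvection_coe]
      show _ = z + j ((1 + Matrix.single (1 : Fin 2) 0 c) * p z - p z)
      rw [e10, siegel_apply, hp, hp, hj.form]
      simp only [map_add, map_sub, map_smul]
      abel
  · rintro A B ⟨G, hG, hGz⟩ ⟨H, hH, hHz⟩
    refine ⟨G * H, mul_mem hG hH, fun z => ?_⟩
    have e : p (H z) = B.1 * p z := by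
      rw [hHz, hpa, hpj]
      abel
    rw [LinearEquiv.mul_apply, hGz, e, hHz, add_assoc, ← map_add]
    congr 2
    show _ = (A * B).1 * p z - p z
    rw [SLTwo.mul_val, mul_assoc]
    abel

theorem lA_mem (g : SL(2, F)) : lA g ∈ E (plusForm 4 F) := by
  obtain ⟨G, hG, h⟩ := mem_E_of_left (j := j1 F) (p := p1) emb_j1 (fun U z => by
    rw [← J_p z, j1_apply, polar_J, p1_J]
    simp [QuadraticMap.polar]) p1_add (fun U => p1_J 0 U) g
  have : lA g = G := by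
    apply ext_J
    intro X Y
    rw [h, lA_J, p1_J, j1_apply, J_add, add_zero, add_sub_cancel]
  rw [this]
  exact hG

theorem lC_mem (g : SL(2, F)) : lC g ∈ E (plusForm 4 F) := by
  obtain ⟨G, hG, h⟩ := mem_E_of_left (j := j0 F) (p := p0) emb_j0 (fun U z => by
    rw [← J_p z, j0_apply, polar_J, p0_J]
    simp [QuadraticMap.polar]) p0_add (fun U => p0_J U 0) g
  have : lC g = G := by
    apply ext_J
    intro X Y
    rw [h, lC_J, p0_J, j0_apply, J_add, add_zero, add_sub_cancel]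
  rw [this]
  exact hG

theorem lB_mem (g : SL(2, F)) : lB g ∈ E (plusForm 4 F) := by
  rw [← kap_lC]
  exact kap_conj_mem (lC_mem g)

/-! ### the homomorphisms -/

theorem lA_mul (g h : SL(2, F)) : lA (g * h) = lA g * lA h := by
  apply ext_J
  intro X Y
  rw [LinearEquiv.mul_apply, lA_J, lA_J, lA_J, SLTwo.mul_val, mul_assoc]

theorem lB_mul (g h : SL(2, F)) : lB (g * h) = lB g * lB h := by
  apply ext_J
  intro X Y
  rw [LinearEquiv.mul_apply, lB_J, lB_J, lB_J, _root_.mul_inv_rev, SLTwo.mul_val, mul_assoc]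

theorem lC_mul (g h : SL(2, F)) : lC (g * h) = lC g * lC h := by
  apply ext_J
  intro X Y
  rw [LinearEquiv.mul_apply, lC_J, lC_J, lC_J, SLTwo.mul_val, mul_assoc]

/-- the three families -/
def l3 : Fin 3 → SL(2, F) → (V8 F ≃ₗ[F] V8 F) := ![lB, lA, lC]

theorem l3_mem (i : Fin 3) (g : SL(2, F)) : l3 i g ∈ E (plusForm 4 F) := by
  fin_cases i
  · exact lB_mem g
  · exact lA_mem g
  · exact lC_mem g

theorem l3_mul (i : Fin 3) (g h : SL(2, F)) : l3 i (g * h) = l3 i g * l3 i h := by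
  fin_cases i
  · exact lB_mul g h
  · exact lA_mul g h
  · exact lC_mul g h

/-- the homomorphisms to `E Q` -/
def e3 (i : Fin 3) : SL(2, F) →* ↥(E (plusForm 4 F)) :=
  MonoidHom.mk' (fun g => ⟨l3 i g, l3_mem i g⟩) fun g h => Subtype.ext (l3_mul i g h)

theorem coe_e3 (i : Fin 3) (g : SL(2, F)) : (e3 i g : V8 F ≃ₗ[F] V8 F) = l3 i g := rfl

/-- the three copies of `SL(2, F)` in `P8 F` -/
def a3 (i : Fin 3) : SL(2, F) →* P8 F := (QuotientGroup.mk' (Subgroup.center ↥(E (plusForm 4 F)))).comp (e3 i)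

theorem a3_apply (i : Fin 3) (g : SL(2, F)) : a3 i g = ((e3 i g : ↥(E (plusForm 4 F))) : P8 F) := rfl

theorem l3_comm {i j : Fin 3} (hij : i ≠ j) (g h : SL(2, F)) : l3 i g * l3 j h = l3 j h * l3 i g := by
  have hAB : ∀ g h : SL(2, F), lA g * lB h = lB h * lA g := fun g h => by
    apply ext_J; intro X Y
    rw [LinearEquiv.mul_apply, LinearEquiv.mul_apply, lA_J, lB_J, lB_J, lA_J]
  have hAC : ∀ g h : SL(2, F), lA g * lC h = lC h * lA g := fun g h => by
    apply ext_J; intro X Y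
    rw [LinearEquiv.mul_apply, LinearEquiv.mul_apply, lA_J, lC_J, lC_J, lA_J]
  have hBC : ∀ g h : SL(2, F), lB g * lC h = lC h * lB g := fun g h => by
    apply ext_J; intro X Y
    rw [LinearEquiv.mul_apply, LinearEquiv.mul_apply, lB_J, lC_J, lC_J, lB_J, mul_assoc]
  fin_cases i <;> fin_cases j
  · exact absurd rfl hij
  · exact (hAB h g).symm
  · exact hBC g h
  · exact hAB g h
  · exact absurd rfl hij
  · exact hAC g h
  · exact (hBC h g).symm
  · exact (hAC h g).symm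
  · exact absurd rfl hij

/-- each map of a family is trivial on a vector which determines it -/
theorem l3_fix (i : Fin 3) : ∃ v : V8 F, v ≠ 0 ∧ ∀ g : SL(2, F), l3 i g v = v := by
  have h0 : J (1 : M2 F) 0 ≠ 0 := by
    intro h
    have := congrFun h (.inl 0)
    simp [J] at this
  have h1 : J 0 (1 : M2 F) ≠ 0 := by
    intro h
    have := congrFun h (.inl 3)
    simp [J] at this
  fin_cases i
  · exact ⟨J 0 1, h1, fun g => by
      show lB g _ = _
      rw [lB_J, zero_mul]⟩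
  · exact ⟨J 1 0, h0, fun g => by
      show lA g _ = _
      rw [lA_J, mul_zero]⟩
  · exact ⟨J 0 1, h1, fun g => by
      show lC g _ = _
      rw [lC_J, mul_zero]⟩

theorem l3_inj (i : Fin 3) {g : SL(2, F)} (h : l3 i g = 1) : g = 1 := by
  have hA : ∀ g : SL(2, F), g.1 = 1 → g = 1 := fun g h => Subtype.ext h
  fin_cases i
  · have h' : lB g = 1 := h
    have h1 := lB_J g 1 0
    rw [h'] at h1
    have h2 := (J_inj h1).1
    rw [one_mul] at h2
    rw [← inv_eq_one]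
    exact hA _ h2.symm
  · have h' : lA g = 1 := h
    have h1 := lA_J g 0 1
    rw [h'] at h1
    have h2 := (J_inj h1).2
    rw [mul_one] at h2
    exact hA _ h2.symm
  · have h' : lC g = 1 := h
    have h1 := lC_J g 1 0
    rw [h'] at h1
    have h2 := (J_inj h1).1
    rw [mul_one] at h2
    exact hA _ h2.symm

theorem three (hG : Good (plusForm 4 F)) : Three (a3 (F := F)) := by
  refine ⟨fun i => ?_, fun i j hij x y => ?_⟩
  · rw [injective_iff_map_eq_one]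
    intro g hg
    have h1 : e3 i g ∈ Subgroup.center ↥(E (plusForm 4 F)) := (QuotientGroup.eq_one_iff _).mp hg
    obtain ⟨c, hc⟩ := center_scalar hG h1
    obtain ⟨v, hv, hgv⟩ := l3_fix (F := F) i
    have h2 := hc v
    rw [coe_e3, hgv] at h2
    have hc1 : c = 1 := by
      have h3 : (1 - c) • v = 0 := by rw [sub_smul, one_smul, ← h2, sub_self]
      exact (sub_eq_zero.mp ((smul_eq_zero.mp h3).resolve_right hv)).symm
    apply l3_inj i
    apply LinearEquiv.ext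
    intro w
    have := hc w
    rw [hc1, one_smul, coe_e3] at this
    exact this
  · rw [Commute, SemiconjBy, a3_apply, a3_apply, ← QuotientGroup.mk_mul, ← QuotientGroup.mk_mul]
    congr 1
    exact Subtype.ext (l3_comm hij x y)

/-- **`ρ` permutes the three copies.** -/
theorem rho_a3 (hG : Good (plusForm 4 F)) (i : Fin 3) : Acts a3 (rho hG) i (i + 1) 1 := by
  intro g
  rw [MulAut.one_apply, a3_apply, a3_apply]
  fin_cases i
  · have h : TriE ((e3 0 g : ↥(E (plusForm 4 F))) : V8 F ≃ₗ[F] V8 F) ((e3 1 g : ↥(E (plusForm 4 F))) : V8 F ≃ₗ[F] V8 F)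
      (lB g) := ⟨⟨lB_mem g, lA_mem g, lB_mem g⟩, tri_lB g⟩
    refine (rho_mk hG h).trans (congrArg _ (Subtype.ext ?_))
    exact kap_lA g
  · have h : TriE ((e3 1 g : ↥(E (plusForm 4 F))) : V8 F ≃ₗ[F] V8 F) ((e3 0 g : ↥(E (plusForm 4 F))) : V8 F ≃ₗ[F] V8 F)
      (lC g) := ⟨⟨lA_mem g, lB_mem g, lC_mem g⟩, tri_lA g⟩
    refine (rho_mk hG h).trans (congrArg _ (Subtype.ext ?_))
    exact kap_lB g
  · have h : TriE ((e3 2 g : ↥(E (plusForm 4 F))) : V8 F ≃ₗ[F] V8 F) ((e3 2 g : ↥(E (plusForm 4 F))) : V8 F ≃ₗ[F] V8 F)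
      (lA g) := ⟨⟨lC_mem g, lC_mem g, lA_mem g⟩, tri_lC g⟩
    refine (rho_mk hG h).trans (congrArg _ (Subtype.ext ?_))
    exact kap_lC g

/-! ### semisimilarities in coordinates -/

/-- `M` acts on the first matrix by `X ↦ A σ(X) B` -/
def Lft (M : G8 F) (A B : M2 F) (σ : F ≃+* F) : Prop :=
  A.det ≠ 0 ∧ B.det ≠ 0 ∧ ∀ X, M.1 (J X 0) = J (A * X.map σ * B) 0

/-- `M` acts on the first matrix by `X ↦ A σ(adj X) B` -/
def LftT (M : G8 F) (A B : M2 F) (σ : F ≃+* F) : Prop :=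
  A.det ≠ 0 ∧ B.det ≠ 0 ∧ ∀ X, M.1 (J X 0) = J (A * X.adjugate.map σ * B) 0

/-- `M` acts on the second matrix by `Y ↦ A σ(Y) B` -/
def Rgt (M : G8 F) (A B : M2 F) (σ : F ≃+* F) : Prop :=
  A.det ≠ 0 ∧ B.det ≠ 0 ∧ ∀ Y, M.1 (J 0 Y) = J 0 (A * Y.map σ * B)

/-- `M` acts on the second matrix by `Y ↦ A σ(adj Y) B` -/
def RgtT (M : G8 F) (A B : M2 F) (σ : F ≃+* F) : Prop :=
  A.det ≠ 0 ∧ B.det ≠ 0 ∧ ∀ Y, M.1 (J 0 Y) = J 0 (A * Y.adjugate.map σ * B)

/-- `M` preserves the two summands -/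
def Spl (M : G8 F) : Prop := (∀ X, ∃ X', M.1 (J X 0) = J X' 0) ∧ ∀ Y, ∃ Y', M.1 (J 0 Y) = J 0 Y'

theorem map_mul_map (σ : F ≃+* F) (X Y : M2 F) : (X * Y).map σ = X.map σ * Y.map σ := by
  rw [Matrix.map_mul]

theorem exists_sc [Finite F] (hG : Good (plusForm 4 F)) {x : MulAut (P8 F)} {i j : Fin 3} {A : M2 F} {σ : F ≃+* F}
    (hA : A.det ≠ 0) (h : ∀ g : SL(2, F), ∀ k : SL(2, F), k.1 * A = A * g.1.map σ → x (a3 i g) = a3 j k) :
    ∃ ξ ∈ SC F, Acts a3 x i j ξ := by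
  have hA' : IsUnit A.det := isUnit_iff_ne_zero.mpr hA
  have hk : ∀ g : SL(2, F), ∃ k : SL(2, F), k.1 * A = A * g.1.map σ := by
    intro g
    refine ⟨⟨A * g.1.map σ * A⁻¹, ?_⟩, ?_⟩
    · have e : (g.1.map σ).det = 1 := by
        have : (g.1.map σ).det = σ g.1.det := (RingEquiv.map_det σ g.1).symm
        rw [this, g.2, map_one]
      rw [Matrix.det_mul, Matrix.det_mul, e, mul_one, ← Matrix.det_mul, Matrix.mul_nonsing_inv _ hA', Matrix.det_one]
    · show A * g.1.map σ * A⁻¹ * A = _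
      rw [mul_assoc, Matrix.nonsing_inv_mul _ hA', mul_one]
  have hfin : Finite SL(2, F) := inferInstance
  obtain ⟨ξ, hξ⟩ := (three hG).exists_acts (x := x) (i := i) (j := j) fun g => by
    obtain ⟨k, hk⟩ := hk g
    exact ⟨k, h g k hk⟩
  refine ⟨ξ, ⟨A, σ, hA, fun g => ?_⟩, hξ⟩
  obtain ⟨k, hk⟩ := hk g
  have : ξ g = k := (three hG).inj j (by rw [← hξ g, h g k hk])
  rw [this]
  exact hk

theorem psi_l3 {M : G8 F} {i j : Fin 3} {g k : SL(2, F)} (h : ∀ X Y, M.1 (l3 i g (J X Y)) = l3 j k (M.1 (J X Y))) :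
    Psi (plusForm 4 F) M (a3 i g) = a3 j k := by
  rw [a3_apply, a3_apply, Psi_mk]
  congr 1
  apply Subtype.ext
  apply LinearEquiv.ext
  intro z
  rw [coe_conjE, coe_e3, coe_e3]
  obtain ⟨w, rfl⟩ := M.1.surjective z
  rw [conjLin_apply', ← J_p w, h]

theorem Spl.apply {M : G8 F} (_h : Spl M) {X Y X' Y' : M2 F} (h0 : M.1 (J X 0) = J X' 0) (h1 : M.1 (J 0 Y) = J 0 Y') :
    M.1 (J X Y) = J X' Y' := by
  obtain ⟨σ, c, hs⟩ := M.2
  have e : J X Y = J X 0 + J 0 Y := by rw [J_add, add_zero, zero_add]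
  rw [e, hs.add, h0, h1, J_add, add_zero, zero_add]

theorem Rgt.acts [Finite F] (hG : Good (plusForm 4 F)) {M : G8 F} (hS : Spl M) {A B : M2 F} {σ : F ≃+* F}
    (h : Rgt M A B σ) : ∃ ξ ∈ SC F, Acts a3 (Psi (plusForm 4 F) M) 1 1 ξ := by
  refine exists_sc hG (σ := σ) h.1 fun g k hk => psi_l3 fun X Y => ?_
  obtain ⟨X', hX'⟩ := hS.1 X
  show M.1 (lA g (J X Y)) = lA k (M.1 (J X Y))
  rw [lA_J, hS.apply hX' (h.2.2 _), hS.apply hX' (h.2.2 _), lA_J, map_mul_map, ← mul_assoc, ← mul_assoc, ← mul_assoc, ← hk]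

theorem Lft.acts2 [Finite F] (hG : Good (plusForm 4 F)) {M : G8 F} (hS : Spl M) {A B : M2 F} {σ : F ≃+* F}
    (h : Lft M A B σ) : ∃ ξ ∈ SC F, Acts a3 (Psi (plusForm 4 F) M) 2 2 ξ := by
  refine exists_sc hG (σ := σ) h.1 fun g k hk => psi_l3 fun X Y => ?_
  obtain ⟨Y', hY'⟩ := hS.2 Y
  show M.1 (lC g (J X Y)) = lC k (M.1 (J X Y))
  rw [lC_J, hS.apply (h.2.2 _) hY', hS.apply (h.2.2 _) hY', lC_J, map_mul_map, ← mul_assoc, ← mul_assoc, ← mul_assoc, ← hk]

theorem inv_eq_of {B : M2 F} {σ : F ≃+* F} (hB : B.det ≠ 0) {g k : SL(2, F)} (hk : k.1 * B⁻¹ = B⁻¹ * g.1.map σ) :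
    (g⁻¹).1.map σ * B = B * (k⁻¹).1 := by
  have hB' : IsUnit B.det := isUnit_iff_ne_zero.mpr hB
  have h1 : g.1.map σ = B * k.1 * B⁻¹ := by
    rw [mul_assoc, hk, ← mul_assoc, Matrix.mul_nonsing_inv _ hB', one_mul]
  have h2 : (g⁻¹).1.map σ * g.1.map σ = 1 := by
    rw [← map_mul_map, inv_mul_val]
    ext i j
    fin_cases i <;> fin_cases j <;> simp
  calc (g⁻¹).1.map σ * B = (g⁻¹).1.map σ * (B * k.1 * B⁻¹) * (B * (k⁻¹).1) := by
        have : B * k.1 * B⁻¹ * (B * (k⁻¹).1) = B := by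
          calc B * k.1 * B⁻¹ * (B * (k⁻¹).1) = B * k.1 * (B⁻¹ * B) * (k⁻¹).1 := by simp only [mul_assoc]
            _ = B * (k.1 * (k⁻¹).1) := by rw [Matrix.nonsing_inv_mul _ hB', mul_one, mul_assoc]
            _ = B := by rw [val_mul_inv, mul_one]
        rw [mul_assoc, this]
    _ = B * (k⁻¹).1 := by rw [← h1, h2, one_mul]

theorem inv_det_ne {B : M2 F} (hB : B.det ≠ 0) : (B⁻¹).det ≠ 0 := by
  rw [Matrix.det_nonsing_inv, Ring.inverse_eq_inv']
  exact inv_ne_zero hB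

theorem Lft.acts0 [Finite F] (hG : Good (plusForm 4 F)) {M : G8 F} (hS : Spl M) {A B : M2 F} {σ : F ≃+* F}
    (h : Lft M A B σ) : ∃ ξ ∈ SC F, Acts a3 (Psi (plusForm 4 F) M) 0 0 ξ := by
  refine exists_sc hG (σ := σ) (inv_det_ne h.2.1) fun g k hk => psi_l3 fun X Y => ?_
  obtain ⟨Y', hY'⟩ := hS.2 Y
  show M.1 (lB g (J X Y)) = lB k (M.1 (J X Y))
  rw [lB_J, hS.apply (h.2.2 _) hY', hS.apply (h.2.2 _) hY', lB_J, map_mul_map, mul_assoc A, mul_assoc (X.map σ),
    inv_eq_of h.2.1 hk]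
  simp only [mul_assoc]

theorem adj_map (σ : F ≃+* F) (X : M2 F) : X.adjugate.map σ = (X.map σ).adjugate := by
  rw [Matrix.adjugate_fin_two, Matrix.adjugate_fin_two]
  ext i j
  fin_cases i <;> fin_cases j <;> simp

theorem LftT.acts20 [Finite F] (hG : Good (plusForm 4 F)) {M : G8 F} (hS : Spl M) {A B : M2 F} {σ : F ≃+* F}
    (h : LftT M A B σ) : ∃ ξ ∈ SC F, Acts a3 (Psi (plusForm 4 F) M) 2 0 ξ := by
  refine exists_sc hG (σ := σ) (inv_det_ne h.2.1) fun g k hk => psi_l3 fun X Y => ?_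
  obtain ⟨Y', hY'⟩ := hS.2 Y
  show M.1 (lC g (J X Y)) = lB k (M.1 (J X Y))
  rw [lC_J, hS.apply (h.2.2 _) hY', hS.apply (h.2.2 _) hY', lB_J, Matrix.adjugate_mul_distrib, map_mul_map, adj_val,
    mul_assoc A, mul_assoc (X.adjugate.map σ), inv_eq_of h.2.1 hk]
  simp only [mul_assoc]

theorem LftT.acts02 [Finite F] (hG : Good (plusForm 4 F)) {M : G8 F} (hS : Spl M) {A B : M2 F} {σ : F ≃+* F}
    (h : LftT M A B σ) : ∃ ξ ∈ SC F, Acts a3 (Psi (plusForm 4 F) M) 0 2 ξ := by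
  refine exists_sc hG (σ := σ) h.1 fun g k hk => psi_l3 fun X Y => ?_
  obtain ⟨Y', hY'⟩ := hS.2 Y
  show M.1 (lB g (J X Y)) = lC k (M.1 (J X Y))
  rw [lB_J, hS.apply (h.2.2 _) hY', hS.apply (h.2.2 _) hY', lC_J, Matrix.adjugate_mul_distrib, map_mul_map, adj_inv_val,
    ← mul_assoc, ← mul_assoc, ← mul_assoc, hk]

end Cfsg.Agent.H174.WT.Mod
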