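import Cfsg.Agent.TwoFusion.SLTwoFacts
import Cfsg.Agent.H174.WT.Abs

/-!
# S3826, triality rows: `SL(2, F)` (helper174)

* `SC F` : the group of the automorphisms `g ↦ A σ(g) A⁻¹` of `SL(2, F)`;
* `exists_swap` : every coset `ν Inn` contains an element which is not of `3`-power order;
* `eq_one` : `4 ≤ |F|`: an automorphism whose conjugates lie in a `3`-group is trivial.
-/

set_option autoImplicit false
set_option linter.unusedSectionVars false

namespace Cfsg.Agent.H174.WT.SL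

open Matrix
open scoped MatrixGroups commutatorElement

variable {F : Type*} [Field F]

/-- the automorphisms `g ↦ A σ(g) A⁻¹` -/
def SC (F : Type*) [Field F] : Subgroup (MulAut SL(2, F)) where
  carrier := {ξ | ∃ (A : Matrix (Fin 2) (Fin 2) F) (σ : F ≃+* F), A.det ≠ 0 ∧ ∀ g, (ξ g).1 * A = A * g.1.map σ}
  one_mem' := ⟨1, RingEquiv.refl F, by simp, fun g => by
    rw [MulAut.one_apply, mul_one, one_mul]
    ext i j
    rfl⟩
  mul_mem' := by
    rintro ξ η ⟨A, σ, hA, h⟩ ⟨B, τ, hB, k⟩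
    refine ⟨A * B.map σ, τ.trans σ, ?_, fun g => ?_⟩
    · rw [Matrix.det_mul]
      refine mul_ne_zero hA ?_
      have : (B.map σ).det = σ B.det := (RingEquiv.map_det σ B).symm
      rw [this]
      simpa using hB
    · rw [MulAut.mul_apply, ← mul_assoc, h, mul_assoc, mul_assoc]
      congr 1
      have e1 : (η g).1.map σ * B.map σ = ((η g).1 * B).map σ := by
        rw [Matrix.map_mul]
      have e2 : B.map σ * g.1.map (τ.trans σ) = (B * g.1.map τ).map σ := by
        rw [Matrix.map_mul, Matrix.map_map]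
        rfl
      rw [e1, e2, k]
  inv_mem' := by
    rintro ξ ⟨A, σ, hA, h⟩
    have hd : (A⁻¹.map σ.symm).det ≠ 0 := by
      have : (A⁻¹.map σ.symm).det = σ.symm A⁻¹.det := (RingEquiv.map_det σ.symm _).symm
      rw [this]
      rw [Matrix.det_nonsing_inv, Ring.inverse_eq_inv']
      simpa using hA
    refine ⟨A⁻¹.map σ.symm, σ.symm, hd, fun g => ?_⟩
    have h1 := h (ξ⁻¹ g)
    rw [MulAut.apply_inv_self] at h1
    have hA' : IsUnit A.det := isUnit_iff_ne_zero.mpr hA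
    have h2 : (ξ⁻¹ g).1.map σ = A⁻¹ * g.1 * A := by
      rw [mul_assoc, h1, ← mul_assoc, Matrix.nonsing_inv_mul _ hA', one_mul]
    have h3 : (ξ⁻¹ g).1 = (A⁻¹ * g.1 * A).map σ.symm := by
      rw [← h2, Matrix.map_map]
      ext i j
      simp
    rw [h3, ← Matrix.map_mul, ← Matrix.map_mul, mul_assoc, Matrix.mul_nonsing_inv _ hA', mul_one]

theorem conj_mem_SC (l : SL(2, F)) : MulAut.conj l ∈ SC F := by
  refine ⟨l.1, RingEquiv.refl F, by rw [l.2]; exact one_ne_zero, fun g => ?_⟩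
  have : g.1.map (RingEquiv.refl F) = g.1 := by ext i j; rfl
  rw [this, MulAut.conj_apply]
  show ((l * g * l⁻¹ : SL(2, F)) : Matrix (Fin 2) (Fin 2) F) * (l : Matrix (Fin 2) (Fin 2) F) = _
  rw [← Matrix.SpecialLinearGroup.coe_mul]
  have : l * g * l⁻¹ * l = l * g := by group
  rw [this]
  rfl

/-- **An element of a coset of `Inn` exchanging two points.** -/
theorem exists_swap {ν : MulAut SL(2, F)} (hν : ν ∈ SC F) :
    ∃ l : SL(2, F), ∀ n : ℕ, (ν * MulAut.conj l) ^ 3 ^ n ≠ 1 := by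
  obtain ⟨A, σ, hA, h⟩ := hν
  set W : Matrix (Fin 2) (Fin 2) F := A⁻¹.map σ.symm with hW
  have hA' : IsUnit A.det := isUnit_iff_ne_zero.mpr hA
  have hWd : W.det ≠ 0 := by
    have : (A⁻¹.map σ.symm).det = σ.symm A⁻¹.det := (RingEquiv.map_det σ.symm _).symm
    rw [hW, this, Matrix.det_nonsing_inv, Ring.inverse_eq_inv']
    simpa using hA
  set μ : F := -(W.det)⁻¹ with hμ
  have hμ0 : μ ≠ 0 := neg_ne_zero.mpr (inv_ne_zero hWd)
  have hl : (W * !![0, μ; 1, 0]).det = 1 := by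
    rw [Matrix.det_mul, Matrix.det_fin_two_of, hμ]
    field_simp
    ring
  have hWσ : A * W.map σ = 1 := by
    rw [hW, Matrix.map_map]
    have : A⁻¹.map (σ ∘ σ.symm) = A⁻¹ := by ext i j; simp
    rw [this, Matrix.mul_nonsing_inv _ hA']
  have hWσ' : W.map σ * A = 1 := mul_eq_one_comm.mp hWσ
  refine ⟨⟨_, hl⟩, fun n hn => ?_⟩
  set l : SL(2, F) := ⟨_, hl⟩ with hldef
  set ζ := ν * MulAut.conj l with hζ
  -- `ζ g` is conjugate to `σ g` by an antidiagonal matrix
  have key : ∀ g : SL(2, F), (ζ g).1 * !![0, σ μ; 1, 0] = !![0, σ μ; 1, 0] * g.1.map σ := by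
    intro g
    have h1 := h (l * g * l⁻¹)
    have h2 : (ζ g).1 = (ν (l * g * l⁻¹)).1 := rfl
    have h3 : (W.map σ * !![0, σ μ; 1, 0] : Matrix (Fin 2) (Fin 2) F) = l.1.map σ := by
      rw [hldef]
      show _ = (W * !![0, μ; 1, 0]).map σ
      rw [Matrix.map_mul]
      congr 1
      ext i j
      fin_cases i <;> fin_cases j <;> simp
    have h4 : (!![0, σ μ; 1, 0] : Matrix (Fin 2) (Fin 2) F) = A * l.1.map σ := by
      rw [← h3, ← mul_assoc, hWσ, one_mul]
    have h5 : (l * g * l⁻¹).1.map σ * l.1.map σ = l.1.map σ * g.1.map σ := by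
      rw [← Matrix.map_mul, ← Matrix.map_mul]
      congr 1
      show ((l * g * l⁻¹ : SL(2, F)) : Matrix (Fin 2) (Fin 2) F) * (l : Matrix (Fin 2) (Fin 2) F) =
        (l : Matrix (Fin 2) (Fin 2) F) * (g : Matrix (Fin 2) (Fin 2) F)
      rw [← Matrix.SpecialLinearGroup.coe_mul, ← Matrix.SpecialLinearGroup.coe_mul]
      have : l * g * l⁻¹ * l = l * g := by group
      rw [this]
    rw [h2, h4, ← mul_assoc, h1, mul_assoc, h5, mul_assoc]
  have hσμ : σ μ ≠ 0 := by simpa using hμ0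
  have up : ∀ g : SL(2, F), g.1 1 0 = 0 → (ζ g).1 0 1 = 0 := by
    intro g hg
    have := congrFun (congrFun (key g) 0) 0
    simp [Matrix.mul_apply, Fin.sum_univ_two, hg] at this
    exact this
  have lo : ∀ g : SL(2, F), g.1 0 1 = 0 → (ζ g).1 1 0 = 0 := by
    intro g hg
    have := congrFun (congrFun (key g) 1) 1
    simp [Matrix.mul_apply, Fin.sum_univ_two, hg] at this
    rcases this with h6 | h6
    · exact h6
    · exact absurd h6 hμ0
  have hodd : ∀ m : ℕ, ∀ g : SL(2, F), g.1 1 0 = 0 → ((ζ ^ (2 * m + 1)) g).1 0 1 = 0 := by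
    intro m
    induction m with
    | zero => intro g hg; exact up g hg
    | succ m ih =>
      intro g hg
      have e : 2 * (m + 1) + 1 = (2 * m + 1) + 1 + 1 := by ring
      rw [e, pow_succ, pow_succ, MulAut.mul_apply, MulAut.mul_apply]
      exact ih _ (lo _ (up _ hg))
  obtain ⟨m, hm⟩ : ∃ m, 3 ^ n = 2 * m + 1 := (Odd.pow (by decide : Odd 3))
  have h7 := hodd m ⟨!![1, 1; 0, 1], by simp [Matrix.det_fin_two_of]⟩ (by simp)
  rw [← hm, hn] at h7
  have h8 : (1 : F) = 0 := h7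
  exact one_ne_zero h8

/-- normal subgroups of `SL(2,F)` -/
theorem sl_normal [Fintype F] (hF : 3 < Fintype.card F) (N : Subgroup SL(2, F)) (hN : N.Normal) :
    N = ⊤ ∨ N ≤ Subgroup.center SL(2, F) := by
  have hs := Cfsg.Agent.TwoFusion.SLTwoFacts.isSimpleGroup_psl hF
  have hp := Cfsg.Agent.TwoFusion.SLTwoFacts.commutator_eq_top hF
  obtain ⟨π, hπ⟩ : ∃ π : SL(2, F) →* Matrix.ProjectiveSpecialLinearGroup (Fin 2) F,
      π = QuotientGroup.mk' _ := ⟨_, rfl⟩
  have hsurj : Function.Surjective π := by rw [hπ]; exact QuotientGroup.mk'_surjective _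
  have hker : π.ker = Subgroup.center SL(2, F) := by rw [hπ]; exact QuotientGroup.ker_mk' _
  have hNn : (N.map π).Normal := hN.map π hsurj
  rcases hNn.eq_bot_or_eq_top with h | h
  · right
    rw [← hker]
    exact (Subgroup.map_eq_bot_iff N).1 h
  · left
    have h1 : N ⊔ Subgroup.center SL(2, F) = ⊤ := by
      rw [← hker, ← Subgroup.comap_map_eq, h, Subgroup.comap_top]
    rw [eq_top_iff, ← hp, _root_.commutator_def, Subgroup.commutator_le]
    intro a _ b _
    have ha : a ∈ N ⊔ Subgroup.center SL(2, F) := by rw [h1]; exact Subgroup.mem_top a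
    have hb : b ∈ N ⊔ Subgroup.center SL(2, F) := by rw [h1]; exact Subgroup.mem_top b
    rw [Subgroup.mem_sup_of_normal_left] at ha hb
    obtain ⟨n, hn, c, hc, rfl⟩ := ha
    obtain ⟨n', hn', c', hc', rfl⟩ := hb
    rw [Subgroup.mem_center_iff] at hc hc'
    have e : ⁅n * c, n' * c'⁆ = ⁅n, n'⁆ := by
      rw [commutatorElement_def, commutatorElement_def]
      calc n * c * (n' * c') * (n * c)⁻¹ * (n' * c')⁻¹ = n * (c * (n' * c' * c⁻¹)) * n⁻¹ * c'⁻¹ * n'⁻¹ := by
            group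
        _ = n * ((n' * c' * c⁻¹) * c) * n⁻¹ * c'⁻¹ * n'⁻¹ := by rw [← hc (n' * c' * c⁻¹)]
        _ = n * (n' * (c' * n⁻¹)) * c'⁻¹ * n'⁻¹ := by group
        _ = n * (n' * (n⁻¹ * c')) * c'⁻¹ * n'⁻¹ := by rw [← hc' n⁻¹]
        _ = n * n' * n⁻¹ * n'⁻¹ := by group
    rw [e, commutatorElement_def]
    exact N.mul_mem (N.mul_mem (N.mul_mem hn hn') (N.inv_mem hn)) (N.inv_mem hn')

/-- **An automorphism of `SL(2, F)` whose conjugates lie in a `3`-group.** -/
theorem eq_one [Fintype F] (hF : 3 < Fintype.card F) {δ : MulAut SL(2, F)} {R : Subgroup (MulAut SL(2, F))}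
    (hR : IsPGroup 3 R) (h : ∀ l, MulAut.conj l * δ * (MulAut.conj l)⁻¹ ∈ R) : δ = 1 := by
  have h1 : commutator SL(2, F) = ⊤ := Cfsg.Agent.TwoFusion.SLTwoFacts.commutator_eq_top hF
  have h2 : ∀ N : Subgroup SL(2, F), N.Normal → N = ⊤ ∨ N ≤ Subgroup.center SL(2, F) := sl_normal hF
  exact Abs.eq_one_of_conj h1 h2 hR h

end Cfsg.Agent.H174.WT.SL
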