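import Cfsg.Agent.H174.WT.SL

/-!
# S3826, triality rows: `SL(2, 2)` (helper174)
-/

set_option autoImplicit false
set_option linter.unusedSectionVars false

namespace Cfsg.Agent.H174.WT.SLTwo

open Matrix Cfsg.Agent.H174.WT.SL
open scoped MatrixGroups commutatorElement

variable {F : Type*} [Field F]

/-- the element of order three -/
def u3 (F : Type*) [Field F] : SL(2, F) := ⟨!![0, -1; 1, -1], by simp [Matrix.det_fin_two_of]⟩

/-- the field with two elements -/
def Two (F : Type*) [Field F] : Prop := (1 : F) + 1 = 0 ∧ ∀ x : F, x = 0 ∨ x = 1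

theorem two_of_card [Fintype F] (h : Fintype.card F = 2) : Two F := by
  classical
  have h1 : ∀ x : F, x = 0 ∨ x = 1 := by
    intro x
    by_contra hx
    push Not at hx
    have h2 : ({0, 1, x} : Finset F).card = 3 := by
      rw [Finset.card_eq_three]
      exact ⟨0, 1, x, zero_ne_one, hx.1.symm, hx.2.symm, rfl⟩
    have h3 := Finset.card_le_univ ({0, 1, x} : Finset F)
    rw [h2, h] at h3
    omega
  refine ⟨?_, h1⟩
  rcases h1 (1 + 1) with h2 | h2
  · exact h2
  · exact absurd (left_eq_add.mp h2.symm) one_ne_zero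

theorem Two.neg (h : Two F) : (-1 : F) = 1 := neg_eq_of_add_eq_zero_left h.1

/-- the transposition -/
def w2 (h : Two F) : SL(2, F) := ⟨!![0, 1; 1, 0], by rw [Matrix.det_fin_two_of]; simp [h.neg]⟩

theorem ext2 {g k : SL(2, F)} (h00 : g.1 0 0 = k.1 0 0) (h01 : g.1 0 1 = k.1 0 1) (h10 : g.1 1 0 = k.1 1 0)
    (h11 : g.1 1 1 = k.1 1 1) : g = k := by
  apply Subtype.ext
  ext i j
  fin_cases i <;> fin_cases j <;> assumption

theorem mul_val (g k : SL(2, F)) : (g * k).1 = g.1 * k.1 := rfl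

theorem u3_pow_three : (u3 F) ^ 3 = 1 := by
  rw [pow_succ, pow_two]
  apply Subtype.ext
  rw [mul_val, mul_val]
  show !![0, -1; 1, -1] * !![0, -1; 1, -1] * !![0, -1; 1, -1] = (1 : Matrix (Fin 2) (Fin 2) F)
  rw [Matrix.one_fin_two]
  simp

/-- the powers of `u3` -/
def U (F : Type*) [Field F] (s : ZMod 3) : SL(2, F) := u3 F ^ s.val

theorem U_add (s t : ZMod 3) : U F (s + t) = U F s * U F t := by
  unfold U
  rw [← pow_add, ZMod.val_add, ← pow_mod_orderOf]
  conv_rhs => rw [← pow_mod_orderOf]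
  have h : orderOf (u3 F) ∣ 3 := orderOf_dvd_of_pow_eq_one u3_pow_three
  rw [Nat.mod_mod_of_dvd _ h]

theorem U_zero : U F 0 = 1 := pow_zero _

theorem U_one : U F 1 = u3 F := pow_one _

theorem U_neg (s : ZMod 3) : U F (-s) = (U F s)⁻¹ := by
  rw [eq_inv_iff_mul_eq_one, ← U_add, neg_add_cancel, U_zero]

theorem u3_sq_val : (u3 F ^ 2).1 = !![-1, 1; -1, 0] := by
  rw [pow_two, mul_val]
  show !![0, -1; 1, -1] * !![0, -1; 1, -1] = _
  simp

theorem U_two_val : (U F 2).1 = !![-1, 1; -1, 0] := u3_sq_val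

theorem w2_conj (h : Two F) (s : ZMod 3) : w2 h * U F s * (w2 h)⁻¹ = U F (-s) := by
  have h1 : w2 h * u3 F * (w2 h)⁻¹ = (u3 F)⁻¹ := by
    rw [mul_inv_eq_iff_eq_mul, eq_inv_mul_iff_mul_eq]
    apply Subtype.ext
    rw [mul_val, mul_val]
    show !![0, -1; 1, -1] * (!![0, 1; 1, 0] * !![0, -1; 1, -1]) = !![0, 1; 1, 0]
    simp [h.neg, h.1]
  rw [U_neg]
  unfold U
  rw [← inv_pow, ← h1, conj_pow]

theorem conj_U (h : Two F) {s : ZMod 3} (hs : MulAut.conj (U F s) = 1) : s = 0 := by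
  have h1 : U F s * w2 h * (U F s)⁻¹ = w2 h := by
    have := congrArg (fun f : MulAut SL(2, F) => f (w2 h)) hs
    exact this
  have h2 : U F (-s) = U F s := by
    rw [← w2_conj h, mul_inv_eq_iff_eq_mul, ← mul_inv_eq_iff_eq_mul.mp h1]
  have h3 : U F (s + s) = 1 := by
    have e : U F (s + s) = U F s * (U F (-s)) := by rw [h2, U_add]
    rw [e, ← U_add, add_neg_cancel, U_zero]
  fin_cases s
  · rfl
  · exfalso
    have h4 : (U F 2).1 0 1 = (1 : SL(2, F)).1 0 1 := by
      have : U F 2 = 1 := h3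
      rw [this]
    rw [U_two_val] at h4
    simp at h4
  · exfalso
    have h4 : (U F 1).1 0 1 = (1 : SL(2, F)).1 0 1 := by
      have : U F 1 = 1 := h3
      rw [this]
    rw [U_one] at h4
    simp [u3] at h4

/-- automorphisms of order dividing three -/
theorem exists_U (h : Two F) {δ : MulAut SL(2, F)} (hδ : δ ∈ SC F) (h3 : δ ^ 3 = 1) :
    ∃ s : ZMod 3, δ = MulAut.conj (U F s) := by
  obtain ⟨A, σ, hA, hδ⟩ := hδ
  have hσ : ∀ g : SL(2, F), g.1.map σ = g.1 := by
    intro g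
    ext i j
    rw [Matrix.map_apply]
    rcases h.2 (g.1 i j) with h1 | h1
    · rw [h1, map_zero]
    · rw [h1, map_one]
  have hd : A.det = 1 := (h.2 A.det).resolve_left hA
  set l : SL(2, F) := ⟨A, hd⟩ with hl
  have hδl : δ = MulAut.conj l := by
    ext1 g
    rw [MulAut.conj_apply, eq_mul_inv_iff_mul_eq]
    apply Subtype.ext
    rw [mul_val, mul_val, hδ, hσ]
  have hinv : l * l = 1 → ∃ s : ZMod 3, δ = MulAut.conj (U F s) := by
    intro h1
    have h2 : δ = 1 := by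
      have e1 : δ ^ 2 = 1 := by rw [hδl, ← map_pow, pow_two, h1, map_one]
      calc δ = δ ^ 3 * (δ ^ 2)⁻¹ := by group
        _ = 1 := by rw [h3, e1, inv_one, mul_one]
    exact ⟨0, by rw [h2, U_zero, map_one]⟩
  have hdet : A 0 0 * A 1 1 - A 0 1 * A 1 0 = 1 := by rw [← Matrix.det_fin_two, hd]
  have hAe : A = !![A 0 0, A 0 1; A 1 0, A 1 1] := Matrix.eta_fin_two A
  rcases h.2 (A 0 0) with a0 | a0 <;> rcases h.2 (A 0 1) with b0 | b0 <;> rcases h.2 (A 1 0) with c0 | c0 <;>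
    rcases h.2 (A 1 1) with d0 | d0 <;> rw [a0, b0, c0, d0] at hdet hAe
  all_goals first
    | (exfalso; simp [h.1, h.neg] at hdet; done)
    | (apply hinv; apply Subtype.ext; rw [mul_val]; show A * A = 1; rw [hAe, Matrix.one_fin_two]; simp [h.1]; done)
    | (refine ⟨1, ?_⟩; rw [hδl]; congr 1; rw [U_one]; apply Subtype.ext; show A = !![0, -1; 1, -1]; rw [hAe, h.neg]; done)
    | (refine ⟨2, ?_⟩; rw [hδl]; congr 1; apply Subtype.ext; rw [U_two_val]; show A = !![-1, 1; -1, 0]; rw [hAe, h.neg]; done)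

end Cfsg.Agent.H174.WT.SLTwo
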